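import Cfsg.Agent.Lib.FeitHigman.Multiplicity

/-!
# Conjugation invariance and the conclusion `m ∈ {2, 3, 4, 6, 8}`
-/

set_option autoImplicit false

open Matrix Finset Polynomial
open scoped Real

namespace CfsgLib.FeitHigman

/-- Conjugate numbers have the same multiplicity as roots of a rational polynomial. -/
theorem rootMultiplicity_eq_of_conj {p : ℚ[X]} (hp : p ≠ 0) {x y : ℝ} (hx : IsIntegral ℚ x)
    (h : IsConjRoot ℚ x y) :
    (p.map (algebraMap ℚ ℝ)).roots.count x = (p.map (algebraMap ℚ ℝ)).roots.count y := by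
  obtain ⟨n, r, hr, rfl⟩ := WfDvdMonoid.max_power_factor hp (minpoly.irreducible hx)
  have key : ∀ z : ℝ, IsConjRoot ℚ x z →
      (((minpoly ℚ x) ^ n * r).map (algebraMap ℚ ℝ)).roots.count z = n := by
    intro z hz
    have hne : ((minpoly ℚ x) ^ n * r).map (algebraMap ℚ ℝ) ≠ 0 :=
      (Polynomial.map_ne_zero_iff (algebraMap ℚ ℝ).injective).2 hp
    rw [Polynomial.map_mul, Polynomial.map_pow] at hne ⊢
    rw [roots_mul hne, roots_pow, Multiset.count_add, Multiset.count_nsmul]
    have h1 : ((minpoly ℚ x).map (algebraMap ℚ ℝ)).roots.count z = 1 := by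
      refine Multiset.count_eq_one_of_mem
        (nodup_roots ((minpoly.irreducible hx).separable.map)) ?_
      rw [mem_roots ((Polynomial.map_ne_zero_iff (algebraMap ℚ ℝ).injective).2 (minpoly.ne_zero hx)),
        IsRoot, eval_map_algebraMap]
      exact hz.aeval_eq_zero
    have h2 : (r.map (algebraMap ℚ ℝ)).roots.count z = 0 := by
      rw [Multiset.count_eq_zero]
      intro hm
      rw [mem_roots', IsRoot, eval_map_algebraMap] at hm
      exact hr (by rw [isConjRoot_def.1 hz]; exact minpoly.dvd ℚ z hm.2)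
    rw [h1, h2, mul_one, add_zero]
  rw [key x rfl, key y h]

namespace Ops

variable {ι : Type*} [Fintype ι] [DecidableEq ι] (O : Ops ι)

theorem exists_ratZ : ∃ Z₀ : Matrix ι ι ℚ, O.Z = Z₀.map (algebraMap ℚ ℝ) := by
  obtain ⟨S₀, hS⟩ := O.ratS
  obtain ⟨T₀, hT⟩ := O.ratT
  refine ⟨S₀ * T₀ + T₀ * S₀ - ((O.t : ℚ) - 1) • S₀ - ((O.s : ℚ) - 1) • T₀ +
    (((O.s : ℚ) - 1) * ((O.t : ℚ) - 1)) • 1, ?_⟩
  ext i j
  simp only [Z, hS, hT, Matrix.add_apply, Matrix.sub_apply, Matrix.smul_apply, Matrix.mul_apply,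
    Matrix.map_apply, Matrix.one_apply, smul_eq_mul, map_add, map_sub, map_mul, map_sum, map_natCast,
    map_one]
  split_ifs <;> simp

theorem mult_eq_count (d : ℝ) : O.mult d = (O.Z.charpoly.roots.count d : ℝ) := by
  rw [O.mult_eq_card, O.Z_herm.roots_charpoly_eq_eigenvalues, Multiset.count_map]
  congr 1
  rw [Finset.card_def, Finset.filter_val]
  congr 1
  refine Multiset.filter_congr fun i _ => ?_
  exact eq_comm

theorem mult_conj {x y : ℝ} (hx : IsIntegral ℚ x) (h : IsConjRoot ℚ x y) : O.mult x = O.mult y := by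
  obtain ⟨Z₀, hZ⟩ := O.exists_ratZ
  rw [O.mult_eq_count, O.mult_eq_count, hZ, Matrix.charpoly_map,
    rootMultiplicity_eq_of_conj (Matrix.charpoly_monic Z₀).ne_zero hx h]

theorem exists_conj {d : ℝ} (hD : O.mult d ≠ 0) (hirr : ∀ q : ℚ, (q : ℝ) ≠ d) :
    IsIntegral ℚ d ∧ ∃ d', d ≠ d' ∧ IsConjRoot ℚ d d' := by
  obtain ⟨Z₀, hZ⟩ := O.exists_ratZ
  have hmem : d ∈ (Z₀.charpoly.map (algebraMap ℚ ℝ)).roots := by
    rw [← Matrix.charpoly_map, ← hZ, ← Multiset.count_ne_zero]
    intro e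
    exact hD (by rw [O.mult_eq_count, e, Nat.cast_zero])
  have hroot : aeval d Z₀.charpoly = 0 := by
    rw [← eval_map_algebraMap]; exact (mem_roots'.1 hmem).2
  have hint : IsIntegral ℚ d := ⟨Z₀.charpoly, Matrix.charpoly_monic _, hroot⟩
  refine ⟨hint, (notMem_iff_exists_ne_and_isConjRoot (minpoly.irreducible hint).separable ?_).1 ?_⟩
  · refine Polynomial.Splits.of_dvd ?_ (Monic.ne_zero ((Matrix.charpoly_monic Z₀).map _))
      (Polynomial.map_dvd _ (minpoly.dvd ℚ d hroot))
    rw [← Matrix.charpoly_map, ← hZ]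
    exact O.Z_herm.splits_charpoly
  · rintro ⟨q, rfl⟩
    exact hirr q (eq_ratCast _ _).symm

theorem mult_dl_ne_zero [Nonempty ι] (hm : 3 ≤ O.m) {j : ℕ} (hj : 1 ≤ j) (hj' : 2 * j < O.m) :
    O.mult (O.dl j) ≠ 0 := by
  intro h
  have hf := O.formula hj hj'
  rw [h, mul_zero, zero_mul] at hf
  obtain ⟨h1, h2⟩ := O.dl_strict hj hj'
  rcases mul_eq_zero.1 hf.symm with e | e
  · exact O.C0_ne_zero hm e
  · nlinarith [mul_pos (sub_pos.2 h1) (by linarith : 0 < O.dl j + 2 * O.rr)]

theorem neg_dl {h j : ℕ} (hh : O.m = 2 * h) (hj' : 2 * j < O.m) : O.dl (h - j) = -O.dl j := by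
  have hne : (h : ℝ) ≠ 0 := Nat.cast_ne_zero.2 (by omega)
  have hjh : j ≤ h := by omega
  have : ang O.m (h - j : ℕ) = π - ang O.m j := by
    unfold ang
    rw [hh]
    push_cast [Nat.cast_sub hjh]
    field_simp
  unfold dl
  rw [this, Real.cos_pi_sub]
  ring

theorem dl_rational [Nonempty ι] (hm : 3 ≤ O.m) {j : ℕ} (hj : 1 ≤ j) (hj' : 2 * j < O.m) :
    ∃ q : ℚ, (q : ℝ) = O.dl j := by
  by_contra! hirr
  have hD := O.mult_dl_ne_zero hm hj hj'
  obtain ⟨hint, d', hne, hconj⟩ := O.exists_conj hD hirr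
  have hmul := O.mult_conj hint hconj
  have hD' : O.mult d' ≠ 0 := hmul ▸ hD
  have hd'irr : ∀ q : ℚ, (q : ℝ) ≠ d' := by
    intro q e
    refine hirr q (Eq.symm ?_)
    have hc : IsConjRoot ℚ (algebraMap ℚ ℝ q) (O.dl j) := by rw [eq_ratCast, e]; exact hconj.symm
    rw [hc.eq_algebraMap, eq_ratCast]
  have hA : d' ≠ O.A := fun e => hd'irr ((O.s : ℚ) * O.t + 1) (by rw [e, A]; push_cast; rfl)
  have hB : d' ≠ -O.B := fun e => hd'irr (-((O.s : ℚ) + O.t)) (by rw [e, B]; push_cast; rfl)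
  obtain ⟨i, hi, hi', rfl⟩ := O.exists_index hD' hA hB
  have f1 := O.formula hj hj'
  have f2 := O.formula hi hi'
  rw [← hmul] at f2
  have hC := O.C0_ne_zero hm
  obtain ⟨j1, j2⟩ := O.dl_strict hj hj'
  obtain ⟨i1, i2⟩ := O.dl_strict hi hi'
  have hA2 := O.two_rr_lt_A
  have hB2 := O.two_rr_le_B
  have hr := O.rr_pos
  set d := O.dl j with hd
  set d' := O.dl i with hd'
  have g : (O.A - d) * (O.B + d) * (4 * O.rr ^ 2 - d' ^ 2) =
      (O.A - d') * (O.B + d') * (4 * O.rr ^ 2 - d ^ 2) := by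
    refine mul_left_cancel₀ hC ?_
    linear_combination ((O.A - d') * (O.B + d')) * f1 - ((O.A - d) * (O.B + d)) * f2
  rcases Nat.even_or_odd' O.m with ⟨h, hh | hh⟩
  · have n1 := O.neg_dl hh hj'
    have n2 := O.neg_dl hh hi'
    have f1' := O.formula (l := h - j) (by omega) (by omega)
    have f2' := O.formula (l := h - i) (by omega) (by omega)
    rw [n1, ← hd] at f1'
    rw [n2, ← hd', ← O.mult_conj hint.neg hconj.neg] at f2'
    have g' : (O.A + d) * (O.B - d) * (4 * O.rr ^ 2 - d' ^ 2) =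
        (O.A + d') * (O.B - d') * (4 * O.rr ^ 2 - d ^ 2) := by
      refine mul_left_cancel₀ hC ?_
      linear_combination ((O.A + d') * (O.B - d')) * f1' - ((O.A + d) * (O.B - d)) * f2'
    have hAB := O.A_sub_B_pos
    have key : (O.A - O.B) * ((d - d') * (4 * O.rr ^ 2 + d * d')) = 0 := by
      linear_combination (g - g') / 2
    rcases mul_eq_zero.1 key with e | e
    · linarith
    rcases mul_eq_zero.1 e with e | e
    · exact hne (sub_eq_zero.1 e)
    · nlinarith [mul_pos (sub_pos.2 j1) (sub_pos.2 i1), mul_pos (sub_pos.2 j1) (sub_pos.2 i2),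
        mul_pos (sub_pos.2 j2) (sub_pos.2 i1), mul_pos (sub_pos.2 j2) (sub_pos.2 i2)]
  · have hst := O.s_eq_t_of_odd ⟨h, hh⟩
    have hB' : O.B = 2 * O.rr := by
      have h2 : O.rr = O.s := by
        have h := O.rr_sq'
        rw [← hst] at h
        nlinarith [O.hs']
      rw [B, ← hst, h2]; ring
    rw [hB'] at g
    have key : (2 * O.rr + d) * (2 * O.rr + d') * ((O.A - 2 * O.rr) * (d - d')) = 0 := by
      linear_combination g
    rcases mul_eq_zero.1 key with e | e
    · rcases mul_eq_zero.1 e with e | e <;> linarith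
    rcases mul_eq_zero.1 e with e | e
    · linarith
    · exact hne (sub_eq_zero.1 e)

/-- The Feit–Higman restriction. -/
theorem m_mem [Nonempty ι] : O.m ∈ ({2, 3, 4, 6, 8} : Set ℕ) := by
  have hm2 := O.hm
  by_cases hm : O.m = 2
  · simp [hm]
  have hm3 : 3 ≤ O.m := by omega
  obtain ⟨q1, hq1⟩ := O.dl_rational hm3 (j := 1) le_rfl (by omega)
  have hr := O.rr_pos
  have hang : ang O.m (1 : ℕ) = ((2 / O.m : ℚ) : ℝ) * π := by
    unfold ang; push_cast; ring
  rcases Nat.even_or_odd' O.m with ⟨h, hh | hh⟩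
  · have hc : ∃ q : ℚ, Real.cos (((4 / O.m : ℚ) : ℝ) * π) = q := by
      refine ⟨q1 ^ 2 / (2 * (O.s * O.t)) - 1, ?_⟩
      rw [show ((4 / O.m : ℚ) : ℝ) * π = 2 * ang O.m (1 : ℕ) by rw [hang]; push_cast; ring,
        Real.cos_two_mul]
      push_cast
      rw [hq1, dl, ← O.rr_sq']
      field_simp
      ring
    have h4 : (4 : ℚ) / O.m ∈ Set.Icc (0 : ℚ) 1 :=
      ⟨by positivity, div_le_one_of_le₀ (by exact_mod_cast (by omega : 4 ≤ O.m)) (by positivity)⟩
    have hmq : (O.m : ℚ) ≠ 0 := Nat.cast_ne_zero.2 (by omega)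
    have key := niven_angle_div_pi_eq hc h4
    simp only [Set.mem_insert_iff, Set.mem_singleton_iff, div_eq_iff hmq] at key
    rcases key with e | e | e | e | e
    · norm_num at e
    · have : (O.m : ℚ) = 12 := by linarith
      have h12 : O.m = 12 := by exact_mod_cast this
      exfalso
      obtain ⟨q2, hq2⟩ := O.dl_rational hm3 (j := 2) (by omega) (by omega)
      have e1 : ang O.m (1 : ℕ) = π / 6 := by unfold ang; rw [h12]; push_cast; ring
      have e2 : ang O.m (2 : ℕ) = π / 3 := by unfold ang; rw [h12]; push_cast; ring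
      rw [dl, e1, Real.cos_pi_div_six] at hq1
      rw [dl, e2, Real.cos_pi_div_three] at hq2
      refine (Nat.Prime.irrational_sqrt Nat.prime_three).ne_rat (q1 / q2) ?_
      push_cast
      rw [hq1, hq2]
      field_simp
    · have : (O.m : ℚ) = 8 := by linarith
      have : O.m = 8 := by exact_mod_cast this
      simp [this]
    · have : (O.m : ℚ) = 6 := by linarith
      have : O.m = 6 := by exact_mod_cast this
      simp [this]
    · have : (O.m : ℚ) = 4 := by linarith
      have : O.m = 4 := by exact_mod_cast this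
      simp [this]
  · have hst := O.s_eq_t_of_odd ⟨h, hh⟩
    have hc : ∃ q : ℚ, Real.cos (((2 / O.m : ℚ) : ℝ) * π) = q := by
      refine ⟨q1 / (2 * O.s), ?_⟩
      have h2 : O.rr = O.s := by
        have h := O.rr_sq'
        rw [← hst] at h
        nlinarith [O.hs']
      rw [← hang]
      push_cast
      rw [hq1, dl, ← h2]
      field_simp
      norm_num
    have h4 : (2 : ℚ) / O.m ∈ Set.Icc (0 : ℚ) 1 :=
      ⟨by positivity, div_le_one_of_le₀ (by exact_mod_cast (by omega : 2 ≤ O.m)) (by positivity)⟩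
    have hmq : (O.m : ℚ) ≠ 0 := Nat.cast_ne_zero.2 (by omega)
    have key := niven_angle_div_pi_eq hc h4
    simp only [Set.mem_insert_iff, Set.mem_singleton_iff, div_eq_iff hmq] at key
    rcases key with e | e | e | e | e
    · norm_num at e
    · have : (O.m : ℚ) = 6 := by linarith
      have : O.m = 6 := by exact_mod_cast this
      omega
    · have : (O.m : ℚ) = 4 := by linarith
      have : O.m = 4 := by exact_mod_cast this
      omega
    · have : (O.m : ℚ) = 3 := by linarith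
      have : O.m = 3 := by exact_mod_cast this
      simp [this]
    · have : (O.m : ℚ) = 2 := by linarith
      have : O.m = 2 := by exact_mod_cast this
      omega

end Ops

end CfsgLib.FeitHigman
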