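import Mathlib

/-!
# Two involutory-type operators with a dihedral braid relation: the Feit–Higman restriction

`S`, `T` are symmetric matrices with quadratic relations, a braid relation of length `m`, and
vanishing traces of the short products. The central element `Z = ST + st (ST)⁻¹` is diagonalised;
the multiplicities of its eigenvalues `2√(st) cos (2πj/m)` are a simple rational function of the
eigenvalue, and invariance under conjugation over `ℚ` forces the eigenvalues to be rational.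
-/

set_option autoImplicit false

open Matrix Finset
open scoped Real

namespace CfsgLib.FeitHigman

/-- The alternating product `a b a b …` with `k` factors. -/
def alt {M : Type*} [Monoid M] (a b : M) : ℕ → M
  | 0 => 1
  | k + 1 => a * alt b a k

theorem alt_two_mul {M : Type*} [Monoid M] (a b : M) (k : ℕ) : alt a b (2 * k) = (a * b) ^ k := by
  induction k with
  | zero => simp [alt]
  | succ k ih =>
    show a * (b * alt a b (2 * k)) = _
    rw [ih, pow_succ', mul_assoc]

theorem alt_two_mul_add_one {M : Type*} [Monoid M] (a b : M) (k : ℕ) :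
    alt a b (2 * k + 1) = (a * b) ^ k * a := by
  induction k with
  | zero => show a * 1 = _; simp
  | succ k ih =>
    show a * (b * alt a b (2 * k + 1)) = _
    rw [ih, pow_succ', mul_assoc, mul_assoc, ← mul_assoc]

/-- The operators. -/
structure Ops (ι : Type*) [Fintype ι] [DecidableEq ι] where
  S : Matrix ι ι ℝ
  T : Matrix ι ι ℝ
  s : ℕ
  t : ℕ
  m : ℕ
  hs : 2 ≤ s
  ht : 2 ≤ t
  hm : 2 ≤ m
  symS : Sᵀ = S
  symT : Tᵀ = T
  sqS : S * S = ((s : ℝ) - 1) • S + (s : ℝ) • 1
  sqT : T * T = ((t : ℝ) - 1) • T + (t : ℝ) • 1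
  braid : alt S T m = alt T S m
  trX : ∀ k, 1 ≤ k → k < m → ((S * T) ^ k).trace = 0
  trS : S.trace = 0
  trT : T.trace = 0
  ratS : ∃ S₀ : Matrix ι ι ℚ, S = S₀.map (algebraMap ℚ ℝ)
  ratT : ∃ T₀ : Matrix ι ι ℚ, T = T₀.map (algebraMap ℚ ℝ)

variable {ι : Type*} [Fintype ι] [DecidableEq ι] (O : Ops ι)

namespace Ops

/-- The product of the generators. -/
def X : Matrix ι ι ℝ := O.S * O.T

/-- `st` times the inverse of `X`. -/
def Y : Matrix ι ι ℝ := (O.T - ((O.t : ℝ) - 1) • 1) * (O.S - ((O.s : ℝ) - 1) • 1)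

/-- The central element. -/
def Z : Matrix ι ι ℝ :=
  O.S * O.T + O.T * O.S - ((O.t : ℝ) - 1) • O.S - ((O.s : ℝ) - 1) • O.T +
    (((O.s : ℝ) - 1) * ((O.t : ℝ) - 1)) • 1

theorem hs' : (2 : ℝ) ≤ O.s := by exact_mod_cast O.hs
theorem ht' : (2 : ℝ) ≤ O.t := by exact_mod_cast O.ht

theorem X_add_Y : O.X + O.Y = O.Z := by
  simp only [X, Y, Z, mul_sub, sub_mul, smul_mul_assoc, mul_smul_comm, one_mul, mul_one, smul_sub,
    smul_smul]
  module

theorem Y_mul_X : O.Y * O.X = ((O.s : ℝ) * O.t) • 1 := by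
  have h1 : (O.S - ((O.s : ℝ) - 1) • 1) * O.S = (O.s : ℝ) • 1 := by
    rw [sub_mul, O.sqS, smul_mul_assoc, one_mul]; abel
  have h2 : (O.T - ((O.t : ℝ) - 1) • 1) * O.T = (O.t : ℝ) • 1 := by
    rw [sub_mul, O.sqT, smul_mul_assoc, one_mul]; abel
  calc O.Y * O.X = (O.T - ((O.t : ℝ) - 1) • 1) * ((O.S - ((O.s : ℝ) - 1) • 1) * O.S) * O.T := by
        simp only [X, Y, mul_assoc]
    _ = _ := by
        rw [h1, mul_smul_comm, mul_one, smul_mul_assoc, h2, smul_smul]

theorem X_sq : O.X * O.X = O.Z * O.X - ((O.s : ℝ) * O.t) • 1 := by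
  rw [← O.X_add_Y, add_mul, O.Y_mul_X, add_sub_cancel_right]

theorem Z_comm_S : Commute O.S O.Z := by
  show O.S * O.Z = O.Z * O.S
  have e1 : O.S * O.S * O.T = ((O.s : ℝ) - 1) • (O.S * O.T) + (O.s : ℝ) • O.T := by
    rw [O.sqS, add_mul, smul_mul_assoc, smul_mul_assoc, one_mul]
  have e2 : O.T * O.S * O.S = ((O.s : ℝ) - 1) • (O.T * O.S) + (O.s : ℝ) • O.T := by
    rw [mul_assoc, O.sqS, mul_add, mul_smul_comm, mul_smul_comm, mul_one]
  simp only [Z, mul_add, add_mul, mul_sub, sub_mul, mul_smul_comm, smul_mul_assoc, mul_one, one_mul,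
    ← mul_assoc, e1, e2]
  abel

/-- Exchange the two generators. -/
def swap : Ops ι where
  S := O.T
  T := O.S
  s := O.t
  t := O.s
  m := O.m
  hs := O.ht
  ht := O.hs
  hm := O.hm
  symS := O.symT
  symT := O.symS
  sqS := O.sqT
  sqT := O.sqS
  braid := O.braid.symm
  trX := fun k h1 h2 => by
    rw [← O.trX k h1 h2, ← Matrix.trace_transpose ((O.S * O.T) ^ k), Matrix.transpose_pow,
      Matrix.transpose_mul, O.symS, O.symT]
  trS := O.trT
  trT := O.trS
  ratS := O.ratT
  ratT := O.ratS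

theorem swap_Z : O.swap.Z = O.Z := by
  simp only [Z, swap]
  module

theorem Z_comm_T : Commute O.T O.Z := by
  rw [← O.swap_Z]; exact O.swap.Z_comm_S

theorem Z_transpose : O.Zᵀ = O.Z := by
  simp only [Z, transpose_add, transpose_sub, transpose_mul, transpose_smul, transpose_one, O.symS,
    O.symT]
  abel

theorem Z_herm : O.Z.IsHermitian := by
  rw [Matrix.IsHermitian, conjTranspose_eq_transpose_of_trivial]
  exact O.Z_transpose

/-- An orthogonal matrix diagonalising `Z`. -/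
noncomputable def U : Matrix ι ι ℝ := O.Z_herm.eigenvectorUnitary

/-- The eigenvalues of `Z`. -/
noncomputable def ev : ι → ℝ := O.Z_herm.eigenvalues

theorem UtU : (O.U)ᵀ * O.U = 1 := by
  have h := Unitary.coe_star_mul_self O.Z_herm.eigenvectorUnitary
  rwa [star_eq_conjTranspose, conjTranspose_eq_transpose_of_trivial] at h

theorem UUt : O.U * (O.U)ᵀ = 1 := mul_eq_one_comm.1 O.UtU

theorem Z_eq : O.Z = O.U * diagonal O.ev * (O.U)ᵀ := by
  conv_lhs => rw [O.Z_herm.spectral_theorem, Unitary.conjStarAlgAut_apply, star_eq_conjTranspose,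
    conjTranspose_eq_transpose_of_trivial]
  rfl

/-- The spectral projection. -/
noncomputable def E (d : ℝ) : Matrix ι ι ℝ :=
  O.U * diagonal (fun i => if O.ev i = d then 1 else 0) * (O.U)ᵀ

/-- The multiplicity. -/
noncomputable def mult (d : ℝ) : ℝ := (O.E d).trace

theorem E_mul_self (d : ℝ) : O.E d * O.E d = O.E d := by
  unfold E
  calc _ = O.U * (diagonal (fun i => if O.ev i = d then (1 : ℝ) else 0) * ((O.U)ᵀ * O.U) *
        diagonal (fun i => if O.ev i = d then (1 : ℝ) else 0)) * (O.U)ᵀ := by simp only [mul_assoc]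
    _ = _ := by
      rw [O.UtU, mul_one, diagonal_mul_diagonal]
      congr 3
      funext i
      split_ifs <;> simp

theorem E_transpose (d : ℝ) : (O.E d)ᵀ = O.E d := by
  simp only [E, transpose_mul, transpose_transpose, diagonal_transpose, mul_assoc]

theorem Z_mul_E (d : ℝ) : O.Z * O.E d = d • O.E d := by
  conv_lhs => rw [O.Z_eq]
  unfold E
  calc _ = O.U * (diagonal O.ev * ((O.U)ᵀ * O.U) *
        diagonal (fun i => if O.ev i = d then (1 : ℝ) else 0)) * (O.U)ᵀ := by simp only [mul_assoc]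
    _ = _ := by
      rw [O.UtU, mul_one, diagonal_mul_diagonal, ← smul_mul_assoc, ← mul_smul_comm, ← diagonal_smul]
      congr 3
      funext i
      simp only [Pi.smul_apply, smul_eq_mul]
      split_ifs with h <;> simp [h]

theorem E_comm {M : Matrix ι ι ℝ} (hM : Commute M O.Z) (d : ℝ) : Commute M (O.E d) := by
  set M' := (O.U)ᵀ * M * O.U with hM'
  have hback : M = O.U * M' * (O.U)ᵀ := by
    rw [hM']
    calc M = (O.U * (O.U)ᵀ) * M * (O.U * (O.U)ᵀ) := by rw [O.UUt, one_mul, mul_one]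
      _ = _ := by simp only [mul_assoc]
  have hd : M' * diagonal O.ev = diagonal O.ev * M' := by
    have h1 : (O.U)ᵀ * (M * O.Z) * O.U = (O.U)ᵀ * (O.Z * M) * O.U := by rw [hM.eq]
    rw [O.Z_eq] at h1
    calc M' * diagonal O.ev = (O.U)ᵀ * (M * (O.U * diagonal O.ev * (O.U)ᵀ)) * O.U := by
          simp only [hM', mul_assoc, O.UtU, mul_one]
      _ = (O.U)ᵀ * ((O.U * diagonal O.ev * (O.U)ᵀ) * M) * O.U := h1
      _ = ((O.U)ᵀ * O.U) * diagonal O.ev * M' := by simp only [hM', mul_assoc]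
      _ = _ := by rw [O.UtU, one_mul]
  have hd' : M' * diagonal (fun i => if O.ev i = d then (1 : ℝ) else 0) =
      diagonal (fun i => if O.ev i = d then (1 : ℝ) else 0) * M' := by
    ext i j
    have h := congrFun (congrFun hd i) j
    rw [mul_diagonal, diagonal_mul] at h
    rw [mul_diagonal, diagonal_mul]
    by_cases hz : M' i j = 0
    · simp [hz]
    · have : O.ev j = O.ev i := mul_left_cancel₀ hz (h.trans (mul_comm _ _))
      rw [this, mul_comm]
  show M * O.E d = O.E d * M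
  rw [hback]
  unfold E
  calc _ = O.U * (M' * ((O.U)ᵀ * O.U) * diagonal (fun i => if O.ev i = d then (1 : ℝ) else 0)) *
        (O.U)ᵀ := by simp only [mul_assoc]
    _ = O.U * (diagonal (fun i => if O.ev i = d then (1 : ℝ) else 0) * ((O.U)ᵀ * O.U) * M') *
        (O.U)ᵀ := by rw [O.UtU, mul_one, mul_one, hd']
    _ = _ := by simp only [mul_assoc]

/-- The spectrum. -/
noncomputable def spec : Finset ℝ := Finset.univ.image O.ev

theorem sum_E : ∑ d ∈ O.spec, O.E d = 1 := by
  unfold E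
  rw [← Finset.sum_mul, ← Finset.mul_sum]
  have : ∑ d ∈ O.spec, diagonal (fun i => if O.ev i = d then (1 : ℝ) else 0) = 1 := by
    ext i j
    rw [Matrix.sum_apply]
    by_cases hij : i = j
    · subst hij
      simp [spec]
    · simp [hij]
  rw [this, mul_one, O.UUt]

theorem trace_sum (M : Matrix ι ι ℝ) : M.trace = ∑ d ∈ O.spec, (M * O.E d).trace := by
  rw [← Matrix.trace_sum, ← Finset.mul_sum, O.sum_E, mul_one]

theorem mult_eq_card (d : ℝ) : O.mult d = (Finset.univ.filter fun i => O.ev i = d).card := by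
  rw [mult, E, mul_assoc, Matrix.trace_mul_comm, mul_assoc, O.UtU, mul_one, Matrix.trace_diagonal,
    Finset.sum_boole]

theorem E_eq_zero {d : ℝ} (h : O.mult d = 0) : O.E d = 0 := by
  rw [O.mult_eq_card, Nat.cast_eq_zero, Finset.card_eq_zero, Finset.filter_eq_empty_iff] at h
  unfold E
  rw [show (fun i => if O.ev i = d then (1 : ℝ) else 0) = 0 from funext fun i => by simp [h (Finset.mem_univ i)]]
  simp

theorem mult_pos_of_mem {d : ℝ} (h : d ∈ O.spec) : 0 < O.mult d := by
  rw [O.mult_eq_card]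
  obtain ⟨i, -, rfl⟩ := Finset.mem_image.1 h
  exact Nat.cast_pos.2 (Finset.card_pos.2 ⟨i, by simp⟩)

theorem mem_spec_of_mult_ne_zero {d : ℝ} (h : O.mult d ≠ 0) : d ∈ O.spec := by
  rw [O.mult_eq_card, Nat.cast_ne_zero] at h
  obtain ⟨i, hi⟩ := Finset.card_pos.1 (Nat.pos_of_ne_zero h)
  exact Finset.mem_image.2 ⟨i, Finset.mem_univ _, (Finset.mem_filter.1 hi).2⟩

/-! ### The two projections -/

/-- The projection attached to `S`. -/
noncomputable def P : Matrix ι ι ℝ := ((O.s : ℝ) + 1)⁻¹ • (O.S + 1)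

/-- The projection attached to `T`. -/
noncomputable def Q : Matrix ι ι ℝ := ((O.t : ℝ) + 1)⁻¹ • (O.T + 1)

theorem swap_P : O.swap.P = O.Q := rfl

theorem S_eq : O.S = ((O.s : ℝ) + 1) • O.P - 1 := by
  rw [P, smul_smul, mul_inv_cancel₀ (by positivity), one_smul, add_sub_cancel_right]

theorem T_eq : O.T = ((O.t : ℝ) + 1) • O.Q - 1 := by
  rw [Q, smul_smul, mul_inv_cancel₀ (by positivity), one_smul, add_sub_cancel_right]

theorem P_mul_self : O.P * O.P = O.P := by
  have h : (O.S + 1) * (O.S + 1) = ((O.s : ℝ) + 1) • (O.S + 1) := by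
    rw [add_mul, mul_add, O.sqS, mul_one, one_mul, sub_smul, one_smul, add_smul, one_smul, smul_add]
    abel
  rw [P, smul_mul_assoc, mul_smul_comm, h, smul_smul, smul_smul, mul_assoc,
    inv_mul_cancel₀ (by positivity), mul_one]

theorem Q_mul_self : O.Q * O.Q = O.Q := O.swap.P_mul_self

theorem P_comm : Commute O.P O.Z :=
  (O.Z_comm_S.add_left (Commute.one_left _)).smul_left _

theorem Q_comm : Commute O.Q O.Z :=
  (O.Z_comm_T.add_left (Commute.one_left _)).smul_left _

theorem Z_eq_PQ : O.Z = ((O.s : ℝ) * O.t + 1) • (1 : Matrix ι ι ℝ) -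
    (((O.s : ℝ) + 1) * ((O.t : ℝ) + 1)) • ((O.P - O.Q) * (O.P - O.Q)) := by
  have h : (O.P - O.Q) * (O.P - O.Q) = O.P + O.Q - O.P * O.Q - O.Q * O.P := by
    rw [sub_mul, mul_sub, mul_sub, O.P_mul_self, O.Q_mul_self]; abel
  rw [h]
  simp only [Z, O.S_eq, O.T_eq, mul_sub, sub_mul, smul_mul_assoc, mul_smul_comm, one_mul, mul_one,
    smul_sub, smul_add, smul_smul, mul_comm ((O.t : ℝ) + 1) ((O.s : ℝ) + 1)]
  simp only [sub_smul, add_smul, mul_add, add_mul, sub_mul, mul_sub, one_smul, mul_one, one_mul, smul_sub]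
  module

/-- The parameter of a spectral value. -/
noncomputable def cc (d : ℝ) : ℝ := ((O.s : ℝ) * O.t + 1 - d) / (((O.s : ℝ) + 1) * ((O.t : ℝ) + 1))

theorem diff_sq (d : ℝ) : (O.P - O.Q) * (O.P - O.Q) * O.E d = O.cc d • O.E d := by
  have hK : ((O.s : ℝ) + 1) * ((O.t : ℝ) + 1) ≠ 0 := by positivity
  have h := O.Z_mul_E d
  rw [O.Z_eq_PQ, sub_mul, smul_mul_assoc, smul_mul_assoc, one_mul, sub_eq_iff_eq_add,
    ← sub_eq_iff_eq_add', ← sub_smul] at h
  rw [cc, div_eq_inv_mul, ← smul_smul, h, smul_smul, inv_mul_cancel₀ hK, one_smul]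

theorem sum_sq (d : ℝ) : (O.P + O.Q - 1) * (O.P + O.Q - 1) * O.E d = (1 - O.cc d) • O.E d := by
  have h : (O.P + O.Q - 1) * (O.P + O.Q - 1) = 1 - (O.P - O.Q) * (O.P - O.Q) := by
    simp only [add_mul, mul_add, sub_mul, mul_sub, one_mul, mul_one, O.P_mul_self, O.Q_mul_self]; abel
  rw [h, sub_mul, one_mul, O.diff_sq, sub_smul, one_smul]

theorem EP (d : ℝ) : O.E d * O.P = O.P * O.E d := (O.E_comm O.P_comm d).eq.symm
theorem EQ' (d : ℝ) : O.E d * O.Q = O.Q * O.E d := (O.E_comm O.Q_comm d).eq.symm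

theorem PE_sq (d : ℝ) : (O.P * O.E d) * (O.P * O.E d) = O.P * O.E d := by
  rw [mul_assoc, ← mul_assoc (O.E d), O.EP, mul_assoc O.P (O.E d), O.E_mul_self, ← mul_assoc,
    O.P_mul_self]

theorem sq_trace_eq_zero {M : Matrix ι ι ℝ} (hM : Mᵀ = M) (h : (M * M).trace = 0) : M = 0 := by
  apply Matrix.trace_conjTranspose_mul_self_eq_zero_iff.1
  rwa [conjTranspose_eq_transpose_of_trivial, hM]

theorem sq_trace_nonneg {M : Matrix ι ι ℝ} (hM : Mᵀ = M) : 0 ≤ (M * M).trace := by
  rw [Matrix.trace]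
  refine Finset.sum_nonneg fun i _ => ?_
  rw [Matrix.diag_apply, Matrix.mul_apply]
  refine Finset.sum_nonneg fun j _ => ?_
  rw [show M j i = M i j by conv_lhs => rw [← hM, Matrix.transpose_apply]]
  exact mul_self_nonneg _

theorem P_transpose : (O.P)ᵀ = O.P := by
  rw [P, transpose_smul, transpose_add, transpose_one, O.symS]

theorem Q_transpose : (O.Q)ᵀ = O.Q := O.swap.P_transpose

/-- `cc d = 0`: the projections agree. -/
theorem Q_eq_P {d : ℝ} (h : O.cc d = 0) : O.Q * O.E d = O.P * O.E d := by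
  have hc : Commute (O.P - O.Q) (O.E d) := (O.E_comm O.P_comm d).sub_left (O.E_comm O.Q_comm d)
  have h1 : (O.P - O.Q) * O.E d = 0 := by
    refine sq_trace_eq_zero ?_ ?_
    · rw [transpose_mul, transpose_sub, O.E_transpose, O.P_transpose, O.Q_transpose, hc.eq]
    · rw [mul_assoc, ← mul_assoc (O.E d), ← hc.eq, mul_assoc (O.P - O.Q) (O.E d), O.E_mul_self,
        ← mul_assoc, O.diff_sq, h, zero_smul, trace_zero]
  rw [sub_mul, sub_eq_zero] at h1
  exact h1.symm

/-- `cc d = 1`: the projections are complementary. -/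
theorem Q_eq_one_sub_P {d : ℝ} (h : O.cc d = 1) : O.Q * O.E d = O.E d - O.P * O.E d := by
  have hc : Commute (O.P + O.Q - 1) (O.E d) :=
    ((O.E_comm O.P_comm d).add_left (O.E_comm O.Q_comm d)).sub_left (Commute.one_left _)
  have h1 : (O.P + O.Q - 1) * O.E d = 0 := by
    refine sq_trace_eq_zero ?_ ?_
    · rw [transpose_mul, transpose_sub, transpose_add, transpose_one, O.E_transpose, O.P_transpose,
        O.Q_transpose, hc.eq]
    · rw [mul_assoc, ← mul_assoc (O.E d), ← hc.eq, mul_assoc (O.P + O.Q - 1) (O.E d), O.E_mul_self,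
        ← mul_assoc, O.sum_sq, h, sub_self, zero_smul, trace_zero]
  rw [sub_mul, add_mul, one_mul, sub_eq_zero] at h1
  exact eq_sub_of_add_eq' h1

/-- The projections have half rank away from the two exceptional values. -/
theorem trace_P_Q {d : ℝ} (h0 : O.cc d ≠ 0) (h1 : O.cc d ≠ 1) :
    (O.P * O.E d).trace = O.mult d / 2 ∧ (O.Q * O.E d).trace = O.mult d / 2 := by
  set e := O.E d with he
  have hP := O.EP d
  have hQ := O.EQ' d
  have hD : ((O.P - O.Q) * (O.P - O.Q) * e).trace = O.cc d * O.mult d := by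
    rw [O.diff_sq, trace_smul]; rfl
  -- transport by the difference
  have a1 : (O.P * e).trace * O.cc d = ((1 - O.Q) * e).trace * O.cc d := by
    set V := O.P - O.Q with hV
    have hVe : Commute V e := (O.E_comm O.P_comm d).sub_left (O.E_comm O.Q_comm d)
    have hint : O.P * V = V * (1 - O.Q) := by
      rw [hV, mul_sub, O.P_mul_self, sub_mul, mul_sub, mul_sub, mul_one, mul_one, O.Q_mul_self]; abel
    have hsq : V * V * e = O.cc d • e := O.diff_sq d
    calc (O.P * e).trace * O.cc d = (O.P * (V * V * e)).trace := by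
          rw [hsq, mul_smul_comm, trace_smul, smul_eq_mul, mul_comm]
      _ = (V * ((1 - O.Q) * (V * e))).trace := by
          rw [mul_assoc V V e, ← mul_assoc, hint, mul_assoc]
      _ = ((1 - O.Q) * (V * e) * V).trace := Matrix.trace_mul_comm _ _
      _ = ((1 - O.Q) * (V * V * e)).trace := by
          rw [mul_assoc (1 - O.Q), mul_assoc V e V, ← hVe.eq, mul_assoc V V e]
      _ = _ := by rw [hsq, mul_smul_comm, trace_smul, smul_eq_mul, mul_comm]
  have a2 : (O.P * e).trace * (1 - O.cc d) = (O.Q * e).trace * (1 - O.cc d) := by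
    set R := O.P + O.Q - 1 with hR
    have hRe : Commute R e :=
      ((O.E_comm O.P_comm d).add_left (O.E_comm O.Q_comm d)).sub_left (Commute.one_left _)
    have hint : O.P * R = R * O.Q := by
      rw [hR, mul_sub, mul_add, O.P_mul_self, mul_one, sub_mul, add_mul, O.Q_mul_self, one_mul]; abel
    have hsq : R * R * e = (1 - O.cc d) • e := O.sum_sq d
    calc (O.P * e).trace * (1 - O.cc d) = (O.P * (R * R * e)).trace := by
          rw [hsq, mul_smul_comm, trace_smul, smul_eq_mul, mul_comm]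
      _ = (R * (O.Q * (R * e))).trace := by rw [mul_assoc R R e, ← mul_assoc, hint, mul_assoc]
      _ = (O.Q * (R * e) * R).trace := Matrix.trace_mul_comm _ _
      _ = (O.Q * (R * R * e)).trace := by
          rw [mul_assoc O.Q, mul_assoc R e R, ← hRe.eq, mul_assoc R R e]
      _ = _ := by rw [hsq, mul_smul_comm, trace_smul, smul_eq_mul, mul_comm]
  have b1 := mul_right_cancel₀ h0 a1
  have b2 := mul_right_cancel₀ (sub_ne_zero.2 (Ne.symm h1)) a2
  rw [sub_mul, one_mul, trace_sub] at b1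
  have : (O.E d).trace = O.mult d := rfl
  constructor <;> linarith [b1, b2, this]

theorem XE (d : ℝ) : O.X * O.E d = (((O.s : ℝ) + 1) * ((O.t : ℝ) + 1)) • (O.P * (O.Q * O.E d)) -
    ((O.s : ℝ) + 1) • (O.P * O.E d) - ((O.t : ℝ) + 1) • (O.Q * O.E d) + O.E d := by
  rw [X, O.S_eq, O.T_eq]
  simp only [sub_mul, mul_sub, smul_mul_assoc, mul_smul_comm, one_mul, mul_one, mul_assoc, smul_sub,
    smul_smul, mul_comm ((O.t : ℝ) + 1) ((O.s : ℝ) + 1)]
  abel

theorem X_mul_trace {d : ℝ} (h0 : O.cc d ≠ 0) (h1 : O.cc d ≠ 1) :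
    (O.X * O.E d).trace = O.mult d * d / 2 := by
  obtain ⟨hp, hq⟩ := O.trace_P_Q h0 h1
  have hpq : (O.P * (O.Q * O.E d)).trace = O.mult d * (1 - O.cc d) / 2 := by
    have h := congrArg Matrix.trace (O.diff_sq d)
    simp only [sub_mul, mul_sub, O.P_mul_self, O.Q_mul_self, trace_sub, trace_smul, smul_eq_mul] at h
    have e : (O.Q * O.P * O.E d).trace = (O.P * (O.Q * O.E d)).trace := by
      rw [mul_assoc, Matrix.trace_mul_comm, mul_assoc, O.EQ']
    rw [e, mul_assoc O.P O.Q] at h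
    have : (O.E d).trace = O.mult d := rfl
    rw [this] at h
    linarith
  rw [O.XE]
  simp only [trace_add, trace_sub, trace_smul, smul_eq_mul, hpq, hp, hq]
  rw [show (O.E d).trace = O.mult d from rfl, cc]
  have hK : ((O.s : ℝ) + 1) * ((O.t : ℝ) + 1) ≠ 0 := by positivity
  field_simp
  ring

/-- The scaled Chebyshev recursion. -/
noncomputable def uu (w d : ℝ) : ℕ → ℝ
  | 0 => 0
  | 1 => 1
  | k + 2 => d * uu w d (k + 1) - w * uu w d k

/-- `st`. -/
def w : ℝ := (O.s : ℝ) * O.t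

theorem X_pow_E (d : ℝ) (k : ℕ) : O.X ^ (k + 1) * O.E d =
    uu O.w d (k + 1) • (O.X * O.E d) - (O.w * uu O.w d k) • O.E d := by
  induction k with
  | zero => simp [uu]
  | succ k ih =>
    have hX : O.X * (O.X * O.E d) = d • (O.X * O.E d) - O.w • O.E d := by
      have hcX : Commute O.X O.Z := O.Z_comm_S.mul_left O.Z_comm_T
      rw [← mul_assoc, O.X_sq, sub_mul, smul_mul_assoc, one_mul, ← hcX.eq, mul_assoc, O.Z_mul_E,
        mul_smul_comm]
      rfl
    rw [pow_succ', mul_assoc, ih, mul_sub, mul_smul_comm, mul_smul_comm, hX]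
    simp only [uu, smul_sub, sub_smul, smul_smul]
    ring_nf
    module

end Ops

end CfsgLib.FeitHigman
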