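import Cfsg.Agent.Lib.Chev.BNPair
import Cfsg.Agent.Lib.FeitHigman.Spectral

/-!
# The Weyl group of a Tits system of rank two: alternating words and their lengths
-/

set_option autoImplicit false

namespace CfsgLib.FeitHigman

open CfsgLib.Chev.BN

theorem map_alt {M M' : Type*} [Monoid M] [Monoid M'] (f : M →* M') (a b : M) (k : ℕ) :
    f (alt a b k) = alt (f a) (f b) k := by
  induction k generalizing a b with
  | zero => exact map_one f
  | succ k ih => show f (a * alt b a k) = f a * _; rw [map_mul, ih]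

theorem alt_add {M : Type*} [Monoid M] (a b : M) (i j : ℕ) :
    alt a b (i + j) = alt a b i * (if Even i then alt a b j else alt b a j) := by
  induction i generalizing a b with
  | zero => simp [alt]
  | succ i ih =>
    rw [Nat.succ_add]
    show a * alt b a (i + j) = a * alt b a i * _
    rw [ih, mul_assoc]
    by_cases h : Even i <;> simp [h, Nat.even_add_one]

section involutions

variable {W : Type*} [Group W] {a b : W}

theorem alt_eq_alt_iff_pow (ha : a * a = 1) (hb : b * b = 1) (j k : ℕ) (hpar : j % 2 = k % 2) :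
    alt a b k = alt b a j → (a * b) ^ ((j + k + 1) / 2) = 1 := by
  have hinv : (b * a) = (a * b)⁻¹ := by
    rw [mul_inv_rev, inv_eq_of_mul_eq_one_right ha, inv_eq_of_mul_eq_one_right hb]
  intro h
  rcases Nat.even_or_odd' j with ⟨p, rfl | rfl⟩
  · obtain ⟨q, rfl⟩ : ∃ q, k = 2 * q := ⟨k / 2, by omega⟩
    rw [alt_two_mul, alt_two_mul, hinv, inv_pow] at h
    rw [show (2 * p + 2 * q + 1) / 2 = q + p by omega, pow_add, h, inv_mul_cancel]
  · obtain ⟨q, rfl⟩ : ∃ q, k = 2 * q + 1 := ⟨k / 2, by omega⟩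
    rw [alt_two_mul_add_one, alt_two_mul_add_one, hinv, inv_pow] at h
    rw [show (2 * p + 1 + (2 * q + 1) + 1) / 2 = p + q + 1 by omega, pow_succ, pow_add, mul_assoc,
      ← mul_assoc ((a * b) ^ q), h, ← mul_assoc, ← mul_assoc, mul_inv_cancel, one_mul, hb]

theorem alt_cancel (a b : W) (j i : ℕ) (h : alt a b (j + 2 * i) = alt a b j) :
    (a * b) ^ i = 1 := by
  rw [alt_add] at h
  by_cases hj : Even j
  · rw [if_pos hj, alt_two_mul] at h
    exact mul_eq_left.1 h
  · rw [if_neg hj, alt_two_mul] at h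
    have h1 : (b * a) ^ i = 1 := mul_eq_left.1 h
    rw [show a * b = a * (b * a) * a⁻¹ by group, conj_pow, h1, mul_one, mul_inv_cancel]

theorem alt_order (ha : a * a = 1) (hb : b * b = 1) {m : ℕ} (h : (a * b) ^ m = 1) :
    alt a b m = alt b a m := by
  have hinv : (b * a) = (a * b)⁻¹ := by
    rw [mul_inv_rev, inv_eq_of_mul_eq_one_right ha, inv_eq_of_mul_eq_one_right hb]
  rcases Nat.even_or_odd' m with ⟨q, rfl | rfl⟩
  · rw [alt_two_mul, alt_two_mul, hinv, inv_pow, eq_inv_iff_mul_eq_one, ← pow_add, ← two_mul]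
    exact h
  · rw [alt_two_mul_add_one, alt_two_mul_add_one, hinv, inv_pow, eq_inv_mul_iff_mul_eq, ← mul_assoc,
      ← pow_add, show (a * b) ^ (q + q) * a = (a * b) ^ (2 * q + 1) * b by
        rw [pow_succ, mul_assoc, mul_assoc, hb, mul_one, two_mul], h, one_mul]

end involutions

variable {G : Type*} [Group G] (P : Cfsg.BNPair G)

instance normal_H : ((P.B ⊓ P.N).subgroupOf P.N).Normal :=
  ⟨fun x hx n => by
    rw [Subgroup.mem_subgroupOf] at hx ⊢
    exact conj_mem_H n.2 hx⟩

/-- The projection on the Weyl group. -/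
def toW : ↥P.N →* ↥P.N ⧸ (P.B ⊓ P.N).subgroupOf P.N := QuotientGroup.mk' _

theorem toW_eq_iff (x y : ↥P.N) : toW P x = toW P y ↔ Eqv P (x : G) y := by
  show (QuotientGroup.mk x : ↥P.N ⧸ (P.B ⊓ P.N).subgroupOf P.N) = QuotientGroup.mk y ↔ _
  rw [QuotientGroup.eq, Subgroup.mem_subgroupOf]
  rfl

/-- A labelled pair of generators. -/
structure Pair where
  s : G
  t : G
  hs : s ∈ P.S
  ht : t ∈ P.S
  ne : s ≠ t
  all : ∀ u ∈ P.S, u = s ∨ u = t

variable {P}

namespace Pair

variable (π : Pair P)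

/-- The pair in the other order. -/
def swap : Pair P :=
  ⟨π.t, π.s, π.ht, π.hs, π.ne.symm, fun u hu => (π.all u hu).symm⟩

/-- The first generator in the Weyl group. -/
def a : ↥P.N ⧸ (P.B ⊓ P.N).subgroupOf P.N := toW P ⟨π.s, s_mem_N π.hs⟩

/-- The second generator in the Weyl group. -/
def b : ↥P.N ⧸ (P.B ⊓ P.N).subgroupOf P.N := toW P ⟨π.t, s_mem_N π.ht⟩

theorem a_sq : π.a * π.a = 1 := by
  rw [a, ← map_mul, ← map_one (toW P), toW_eq_iff]
  exact (eqv_one_iff.2 (sq_mem_H π.hs)).symm

theorem b_sq : π.b * π.b = 1 := π.swap.a_sq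

theorem a_ne_b : π.a ≠ π.b := fun h =>
  π.ne (P.inj _ π.hs _ π.ht ((toW_eq_iff P _ _).1 h).1)

theorem a_ne_one : π.a ≠ 1 := fun h => by
  rw [a, ← map_one (toW P), toW_eq_iff] at h
  exact s_not_mem_B π.hs (eqv_one_iff.1 h.symm).1

/-- The order of the product of the generators. -/
noncomputable def m : ℕ := orderOf (π.a * π.b)

theorem swap_m : π.swap.m = π.m := by
  show orderOf (π.b * π.a) = orderOf (π.a * π.b)
  rw [← orderOf_inv (π.a * π.b), mul_inv_rev, inv_eq_of_mul_eq_one_right π.a_sq,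
    inv_eq_of_mul_eq_one_right π.b_sq]

theorem alt_mem (k : ℕ) : alt π.s π.t k ∈ P.N := by
  induction k generalizing π with
  | zero => exact one_mem _
  | succ k ih => exact mul_mem (s_mem_N π.hs) (ih π.swap)

theorem coe_alt (k : ℕ) :
    ((alt (⟨π.s, s_mem_N π.hs⟩ : ↥P.N) ⟨π.t, s_mem_N π.ht⟩ k : ↥P.N) : G) = alt π.s π.t k :=
  map_alt P.N.subtype _ _ k

theorem toW_alt (k : ℕ) : toW P ⟨alt π.s π.t k, π.alt_mem k⟩ = alt π.a π.b k := by
  rw [a, b, ← map_alt]
  exact congrArg _ (Subtype.ext (π.coe_alt k).symm)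

theorem eqv_alt_iff (π' : Pair P) (k j : ℕ) :
    Eqv P (alt π.s π.t k) (alt π'.s π'.t j) ↔ alt π.a π.b k = alt π'.a π'.b j := by
  rw [← toW_alt, ← toW_alt, toW_eq_iff]

theorem mem_B_alt_iff (k : ℕ) : alt π.s π.t k ∈ P.B ↔ alt π.a π.b k = 1 := by
  rw [← toW_alt, ← map_one (toW P), toW_eq_iff]
  exact ⟨fun h => (eqv_one_iff.2 ⟨h, π.alt_mem k⟩).symm, fun h => (eqv_one_iff.1 h.symm).1⟩

theorem len_alt_le (k : ℕ) : len P (alt π.s π.t k) ≤ k := by
  induction k generalizing π with
  | zero => exact ((len_eq_zero_iff (one_mem P.N)).2 (one_mem _)).le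
  | succ k ih =>
    exact (len_mul_le π.hs (π.swap.alt_mem k)).trans (Nat.add_le_add_right (ih π.swap) 1)

theorem len_alt_parity (k : ℕ) : len P (alt π.s π.t k) % 2 = k % 2 := by
  induction k generalizing π with
  | zero => rw [show alt π.s π.t 0 = 1 from rfl, (len_eq_zero_iff (one_mem P.N)).2 (one_mem _)]
  | succ k ih =>
    show len P (π.s * alt π.t π.s k) % 2 = _
    have h := ih π.swap
    have h' := len_up_or_down π.hs (π.swap.alt_mem k)
    simp only [swap] at h h'
    omega

theorem exists_alt {n : G} (hn : n ∈ P.N) {k : ℕ} (hk : len P n = k) :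
    Eqv P (alt π.s π.t k) n ∨ Eqv P (alt π.t π.s k) n := by
  induction k generalizing n π with
  | zero => exact Or.inl (eqv_one_iff.2 ⟨(len_eq_zero_iff hn).1 hk, hn⟩)
  | succ k ih =>
    obtain ⟨u, hu, v, hv, hvk, he⟩ := exists_cons hn hk
    wlog hus : u = π.s generalizing π
    · exact (this π.swap ((π.all u hu).resolve_left hus)).symm
    subst hus
    rcases ih π hv hvk with h | h
    · cases k with
      | zero => exact Or.inl ((h.mul_left π.s).trans he)
      | succ k =>
        exfalso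
        have h1 := len_congr (((h.mul_left π.s).trans he).symm.trans
          (eqv_twice π.hs (π.swap.alt_mem k)))
        have h2 := π.swap.len_alt_le k
        change len P n = len P (alt π.swap.s π.swap.t k) at h1
        omega
    · exact Or.inl ((h.mul_left π.s).trans he)

theorem m_pos [Finite G] : 0 < π.m := orderOf_pos _

theorem two_le_m [Finite G] : 2 ≤ π.m := by
  have := π.m_pos
  by_contra h
  have h1 : π.m = 1 := by omega
  rw [m, orderOf_eq_one_iff] at h1
  exact π.a_ne_b (by rw [eq_inv_of_mul_eq_one_left h1, inv_eq_of_mul_eq_one_right π.b_sq])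

theorem len_alt {k : ℕ} (hk : k ≤ π.m) : len P (alt π.s π.t k) = k := by
  by_contra hne
  have hle := π.len_alt_le k
  have hpar := π.len_alt_parity k
  set j := len P (alt π.s π.t k) with hj
  have key : ∀ i, (π.a * π.b) ^ i = 1 → i = 0 ∨ π.m ≤ i := fun i hi => by
    rcases Nat.eq_zero_or_pos i with e | e
    · exact Or.inl e
    · exact Or.inr (orderOf_le_of_pow_eq_one e hi)
  rcases π.exists_alt (π.alt_mem k) (n := alt π.s π.t k) hj.symm with h | h
  · have h' := (π.eqv_alt_iff π j k).1 h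
    obtain ⟨i, hi⟩ : ∃ i, k = j + 2 * i := ⟨(k - j) / 2, by omega⟩
    rw [hi] at h'
    rcases key i (alt_cancel _ _ j i h'.symm) with e | e <;> omega
  · have h' := (π.swap.eqv_alt_iff π j k).1 h
    rcases key _ (alt_eq_alt_iff_pow π.a_sq π.b_sq j k hpar h'.symm) with e | e <;> omega

theorem alt_m : Eqv P (alt π.s π.t π.m) (alt π.t π.s π.m) := by
  refine (π.eqv_alt_iff π.swap _ _).2 ?_
  exact alt_order π.a_sq π.b_sq (pow_orderOf_eq_one _)

theorem closure_ab : Subgroup.closure {π.a, π.b} = ⊤ := by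
  refine top_le_iff.1 fun x _ => ?_
  obtain ⟨⟨n, hn⟩, rfl⟩ := QuotientGroup.mk'_surjective _ x
  have hall : ∀ (π' : Pair P) (k : ℕ), π'.a ∈ Subgroup.closure {π.a, π.b} →
      π'.b ∈ Subgroup.closure {π.a, π.b} → alt π'.a π'.b k ∈ Subgroup.closure {π.a, π.b} := by
    intro π' k
    induction k generalizing π' with
    | zero => exact fun _ _ => one_mem _
    | succ k ih => exact fun h1 h2 => mul_mem h1 (ih π'.swap h2 h1)
  have ha := Subgroup.subset_closure (Set.mem_insert π.a {π.b})
  have hb := Subgroup.subset_closure (Set.mem_insert_of_mem π.a (Set.mem_singleton π.b))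
  rcases π.exists_alt hn rfl with h | h
  · have := hall π (len P n) ha hb
    rwa [← toW_alt, (toW_eq_iff P _ ⟨n, hn⟩).2 h] at this
  · have := hall π.swap (len P n) hb ha
    rwa [← toW_alt, (toW_eq_iff P _ ⟨n, hn⟩).2 h] at this

theorem index_eq [Finite G] : ((P.B ⊓ P.N).subgroupOf P.N).index = 2 * π.m := by
  classical
  rw [Subgroup.index_eq_card]
  set c := π.a * π.b with hc
  have hac : π.a * c * π.a = c⁻¹ := by
    rw [hc, ← mul_assoc, π.a_sq, one_mul, mul_inv_rev, inv_eq_of_mul_eq_one_right π.a_sq,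
      inv_eq_of_mul_eq_one_right π.b_sq]
  have hcomm : ∀ z ∈ Subgroup.zpowers c, π.a * z = z⁻¹ * π.a := by
    rintro _ ⟨i, rfl⟩
    have h1 : (π.a * c * π.a⁻¹) ^ i = π.a * c ^ i * π.a⁻¹ := conj_zpow
    rw [inv_eq_of_mul_eq_one_right π.a_sq, hac, inv_zpow] at h1
    show π.a * c ^ i = (c ^ i)⁻¹ * π.a
    rw [h1, mul_assoc, π.a_sq, mul_one]
  have haD : π.a ∉ Subgroup.zpowers c := by
    intro h
    have hb' : π.b = π.a * c := by rw [hc, ← mul_assoc, π.a_sq, one_mul]
    have hbD : π.b ∈ Subgroup.zpowers c := hb' ▸ mul_mem h (Subgroup.mem_zpowers c)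
    have hcc := hcomm c (Subgroup.mem_zpowers c)
    obtain ⟨i, hi⟩ := Subgroup.mem_zpowers_iff.1 h
    have hcom : Commute π.a c := hi ▸ (Commute.zpow_self c i)
    have h2 : c⁻¹ = c := mul_right_cancel (hcc.symm.trans hcom.eq)
    have h3 : c ^ 2 = 1 := by
      rw [pow_two]
      nth_rewrite 1 [← h2]
      exact inv_mul_cancel c
    have hm2 : π.m = 2 := le_antisymm (orderOf_le_of_pow_eq_one two_pos h3) π.two_le_m
    rw [m] at hm2
    obtain ⟨e, he⟩ : ∃ e : ℕ, c ^ e = π.a := (mem_zpowers_iff_mem_range_orderOf.1 h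
      |> Finset.mem_image.1) |>.imp fun e he => he.2
    rw [pow_eq_pow_mod e h3] at he
    rcases Nat.mod_two_eq_zero_or_one e with e2 | e2 <;> rw [e2] at he
    · exact π.a_ne_one (by simpa using he.symm)
    · rw [pow_one, hc, mul_eq_left] at he
      exact π.swap.a_ne_one he
  have htop : ∀ x, x ∈ Subgroup.zpowers c ∨ π.a * x ∈ Subgroup.zpowers c := by
    intro x
    have hx : x ∈ Subgroup.closure {π.a, π.b} := by rw [π.closure_ab]; trivial
    induction hx using Subgroup.closure_induction_left with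
    | one => exact Or.inl (one_mem _)
    | mul_left y hy z _ ih =>
      rcases hy with rfl | rfl
      · rcases ih with h | h
        · right; rwa [← mul_assoc, π.a_sq, one_mul]
        · exact Or.inl h
      · have hb' : π.b = π.a * c := by rw [hc, ← mul_assoc, π.a_sq, one_mul]
        rcases ih with h | h
        · right
          rw [← mul_assoc, ← hc]; exact mul_mem (Subgroup.mem_zpowers c) h
        · left
          have hz : π.b * z = c⁻¹ * (π.a * z) := by
            rw [hb', hcomm c (Subgroup.mem_zpowers c), mul_assoc]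
          rw [hz]; exact mul_mem (inv_mem (Subgroup.mem_zpowers c)) h
    | inv_mul_cancel y hy z _ ih =>
      rcases hy with rfl | rfl
      · rw [inv_eq_of_mul_eq_one_right π.a_sq]
        rcases ih with h | h
        · right; rwa [← mul_assoc, π.a_sq, one_mul]
        · exact Or.inl h
      · rw [inv_eq_of_mul_eq_one_right π.b_sq]
        have hb' : π.b = π.a * c := by rw [hc, ← mul_assoc, π.a_sq, one_mul]
        rcases ih with h | h
        · right
          rw [← mul_assoc, ← hc]; exact mul_mem (Subgroup.mem_zpowers c) h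
        · left
          have hz : π.b * z = c⁻¹ * (π.a * z) := by
            rw [hb', hcomm c (Subgroup.mem_zpowers c), mul_assoc]
          rw [hz]; exact mul_mem (inv_mem (Subgroup.mem_zpowers c)) h
  have hidx : (Subgroup.zpowers c).index = 2 := by
    refine Subgroup.index_eq_two_iff.2 ⟨π.a, fun x => ?_⟩
    by_cases hx : x ∈ Subgroup.zpowers c
    · refine Or.inr ⟨hx, fun h => haD ?_⟩
      simpa using mul_mem (inv_mem hx) h
    · have h1 := (htop x).resolve_left hx
      refine Or.inl ⟨?_, hx⟩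
      have h2 := hcomm _ h1
      rw [← mul_assoc, π.a_sq, one_mul] at h2
      rw [h2, mul_assoc, π.a_sq, mul_one]
      exact inv_mem h1
  rw [← Subgroup.index_mul_card (Subgroup.zpowers c), hidx, Nat.card_zpowers]
  rfl

end Pair

end CfsgLib.FeitHigman
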