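import Cfsg.Agent.Lib.FeitHigman.Trig

/-!
# The multiplicities of the eigenvalues of the central element
-/

set_option autoImplicit false

open Matrix Finset
open scoped Real

namespace CfsgLib.FeitHigman.Ops

variable {ι : Type*} [Fintype ι] [DecidableEq ι] (O : Ops ι)

/-- `√(st)`. -/
noncomputable def rr : ℝ := √O.w

/-- The first exceptional value. -/
def A : ℝ := (O.s : ℝ) * O.t + 1

/-- The second exceptional value, negated. -/
def B : ℝ := (O.s : ℝ) + O.t

theorem w_pos : 0 < O.w := mul_pos (by linarith [O.hs']) (by linarith [O.ht'])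

theorem rr_pos : 0 < O.rr := Real.sqrt_pos.2 O.w_pos

theorem rr_sq : O.rr ^ 2 = O.w := Real.sq_sqrt O.w_pos.le

theorem rr_sq' : O.rr ^ 2 = (O.s : ℝ) * O.t := O.rr_sq

theorem rr_gt_one : 1 < O.rr := by
  have h := O.rr_sq'
  nlinarith [mul_le_mul O.hs' O.ht' (by norm_num : (0 : ℝ) ≤ 2) (by linarith [O.hs'] : (0 : ℝ) ≤ O.s), O.rr_pos]

theorem two_rr_lt_A : 2 * O.rr < O.A := by
  have h := O.rr_sq'
  unfold A
  nlinarith [O.rr_gt_one]

theorem two_rr_le_B : 2 * O.rr ≤ O.B := by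
  have h := O.rr_sq'
  unfold B
  nlinarith [sq_nonneg ((O.s : ℝ) - O.t), O.rr_pos, O.hs', O.ht']

theorem two_rr_lt_B (h : O.s ≠ O.t) : 2 * O.rr < O.B := by
  refine lt_of_le_of_ne O.two_rr_le_B fun e => h ?_
  have h1 : (2 * O.rr) ^ 2 = O.B ^ 2 := by rw [e]
  rw [mul_pow, O.rr_sq', B] at h1
  have : ((O.s : ℝ) - O.t) ^ 2 = 0 := by linarith
  exact_mod_cast sub_eq_zero.1 (pow_eq_zero_iff two_ne_zero |>.1 this)

theorem A_sub_B_pos : O.B < O.A := by
  unfold A B
  nlinarith [O.hs', O.ht']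

theorem cc_eq_zero {d : ℝ} : O.cc d = 0 ↔ d = O.A := by
  have hK : ((O.s : ℝ) + 1) * ((O.t : ℝ) + 1) ≠ 0 := by positivity
  rw [cc, div_eq_zero_iff, or_iff_left hK, sub_eq_zero, A, eq_comm]

theorem cc_eq_one {d : ℝ} : O.cc d = 1 ↔ d = -O.B := by
  have hK : ((O.s : ℝ) + 1) * ((O.t : ℝ) + 1) ≠ 0 := by positivity
  rw [cc, div_eq_one_iff_eq hK, B]
  constructor <;> intro h <;> linarith

theorem comm_E_of_cc {d : ℝ} (h : O.cc d = 0 ∨ O.cc d = 1) :
    O.P * O.Q * O.E d = O.Q * O.P * O.E d := by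
  have h1 : O.Q * O.P * O.E d = O.Q * O.E d * O.P := by rw [mul_assoc, ← O.EP, ← mul_assoc]
  rw [h1, mul_assoc]
  rcases h with h | h
  · rw [O.Q_eq_P h, ← mul_assoc, O.P_mul_self, mul_assoc, O.EP, ← mul_assoc, O.P_mul_self]
  · rw [O.Q_eq_one_sub_P h, mul_sub, ← mul_assoc, O.P_mul_self, sub_mul, mul_assoc O.P (O.E d), O.EP,
      ← mul_assoc, O.P_mul_self]

theorem E_comm_X (d : ℝ) : Commute O.X (O.E d) := O.E_comm (O.Z_comm_S.mul_left O.Z_comm_T) d

theorem cc_of_comm {d : ℝ} (hD : O.mult d ≠ 0) (h : O.P * O.Q * O.E d = O.Q * O.P * O.E d) :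
    O.cc d = 0 ∨ O.cc d = 1 := by
  have rP : ∀ x, O.P * (O.P * x) = O.P * x := fun x => by rw [← mul_assoc, O.P_mul_self]
  have rQ : ∀ x, O.Q * (O.Q * x) = O.Q * x := fun x => by rw [← mul_assoc, O.Q_mul_self]
  have rQP : O.Q * (O.P * O.E d) = O.P * (O.Q * O.E d) := by rw [← mul_assoc, ← h, mul_assoc]
  have rQPQ : O.Q * (O.P * (O.Q * O.E d)) = O.P * (O.Q * O.E d) := by rw [← rQP, rQ]
  have hidem : (O.P - O.Q) * (O.P - O.Q) * ((O.P - O.Q) * (O.P - O.Q) * O.E d) =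
      (O.P - O.Q) * (O.P - O.Q) * O.E d := by
    simp only [sub_mul, mul_sub, mul_assoc, rP, rQ, rQP, rQPQ]
    abel
  rw [O.diff_sq, mul_smul_comm, O.diff_sq, smul_smul] at hidem
  have h4 := congrArg Matrix.trace hidem
  rw [trace_smul, trace_smul, smul_eq_mul, smul_eq_mul] at h4
  have h5 : O.cc d * O.cc d = O.cc d := mul_right_cancel₀ hD h4
  rcases eq_or_ne (O.cc d) 0 with e | e
  · exact Or.inl e
  · exact Or.inr (mul_left_cancel₀ e (h5.trans (mul_one _).symm))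

theorem ne_comm {d : ℝ} (hD : O.mult d ≠ 0) (hA : d ≠ O.A) (hB : d ≠ -O.B)
    (h : O.S * O.X * O.E d = O.X * O.S * O.E d) : False := by
  have hinv : (O.S - ((O.s : ℝ) - 1) • 1) * O.S = (O.s : ℝ) • 1 := by
    rw [sub_mul, O.sqS, smul_mul_assoc, one_mul]; abel
  have h1 := congrArg (fun M => (O.S - ((O.s : ℝ) - 1) • 1) * M) h
  simp only [X, ← mul_assoc, hinv, smul_mul_assoc, one_mul] at h1
  have hst : O.S * O.T * O.E d = O.T * O.S * O.E d :=
    smul_right_injective _ (by linarith [O.hs'] : (O.s : ℝ) ≠ 0) h1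
  have hpq : O.P * O.Q * O.E d = O.Q * O.P * O.E d := by
    simp only [P, Q, smul_mul_assoc, mul_smul_comm, add_mul, mul_add, one_mul, mul_one, hst, smul_smul]
    module
  rcases O.cc_of_comm hD hpq with e | e
  · exact hA (O.cc_eq_zero.1 e)
  · exact hB (O.cc_eq_one.1 e)

theorem s_eq_t_of_odd [Nonempty ι] (hodd : Odd O.m) : O.s = O.t := by
  obtain ⟨h, hm⟩ := hodd
  set W := alt O.S O.T O.m with hW
  have hW' : W = O.X ^ h * O.S := by rw [hW, hm, alt_two_mul_add_one]; rfl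
  have hSW : O.S * W = W * O.T := by
    conv_lhs => rw [hW, O.braid, hm, alt_two_mul_add_one]
    rw [hW', X]
    calc O.S * ((O.T * O.S) ^ h * O.T) = (O.S * (O.T * O.S) ^ h) * O.T := (mul_assoc _ _ _).symm
      _ = _ := by
        rw [(show SemiconjBy O.S (O.T * O.S) (O.S * O.T) from (mul_assoc _ _ _).symm).pow_right h]
  have hW1 : ∃ W', W' * W = 1 := by
    have hu : ∀ (M : Matrix ι ι ℝ) (q : ℕ), 2 ≤ q → M * M = ((q : ℝ) - 1) • M + (q : ℝ) • 1 → IsUnit M := by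
      intro M q hq hM
      refine isUnit_iff_exists_inv.2 ⟨(q : ℝ)⁻¹ • (M - ((q : ℝ) - 1) • 1), ?_⟩
      rw [mul_smul_comm, mul_sub, hM, mul_smul_comm, mul_one, add_sub_cancel_left, smul_smul,
        inv_mul_cancel₀ (by positivity), one_smul]
    have hu' : IsUnit W := by
      rw [hW']
      exact (((hu _ _ O.hs O.sqS).mul (hu _ _ O.ht O.sqT)).pow h).mul (hu _ _ O.hs O.sqS)
    exact ⟨((hu'.unit⁻¹ : (Matrix ι ι ℝ)ˣ) : Matrix ι ι ℝ), hu'.val_inv_mul⟩
  obtain ⟨W', hW'1⟩ := hW1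
  have hT : O.T = W' * O.S * W := by rw [mul_assoc, hSW, ← mul_assoc, hW'1, one_mul]
  have h1 : O.T * O.T = ((O.s : ℝ) - 1) • O.T + (O.s : ℝ) • 1 := by
    conv_lhs => rw [hT]
    calc W' * O.S * W * (W' * O.S * W) = W' * O.S * (W * W') * O.S * W := by simp only [mul_assoc]
      _ = W' * (O.S * O.S) * W := by rw [mul_eq_one_comm.1 hW'1, mul_one, mul_assoc W']
      _ = _ := by
        rw [O.sqS, mul_add, add_mul, mul_smul_comm, smul_mul_assoc, ← hT, mul_smul_comm, mul_one,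
          smul_mul_assoc, hW'1]
  rw [O.sqT] at h1
  have h2 := congrArg Matrix.trace h1
  simp only [trace_add, trace_smul, smul_eq_mul, trace_one, O.trT, mul_zero, zero_add] at h2
  exact_mod_cast (mul_right_cancel₀ (Nat.cast_ne_zero.2 Fintype.card_ne_zero) h2).symm

/-- The eigenvalues other than the exceptional ones. -/
noncomputable def dl (l : ℕ) : ℝ := 2 * O.rr * Real.cos (ang O.m l)

theorem exists_index {d : ℝ} (hD : O.mult d ≠ 0) (hA : d ≠ O.A) (hB : d ≠ -O.B) :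
    ∃ j : ℕ, 1 ≤ j ∧ 2 * j < O.m ∧ d = O.dl j := by
  have hr := O.rr_pos
  have hm0 := O.hm
  have hcm : Commute O.X (O.E d) := O.E_comm_X d
  rcases Nat.even_or_odd' O.m with ⟨h, hm | hm⟩
  · -- the longest element is `X ^ h`
    have hcomm : O.S * O.X ^ h = O.X ^ h * O.S := by
      have h1 : (O.S * O.T) ^ h = (O.T * O.S) ^ h := by
        have := O.braid; rwa [hm, alt_two_mul, alt_two_mul] at this
      have h2 := (show SemiconjBy O.S (O.T * O.S) (O.S * O.T) from (mul_assoc _ _ _).symm).pow_right h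
      rw [SemiconjBy, ← h1] at h2
      exact h2
    obtain ⟨k, rfl⟩ : ∃ k, h = k + 1 := ⟨h - 1, by omega⟩
    have hu : uu (O.rr ^ 2) d (k + 1) = 0 := by
      by_contra hne
      rw [O.rr_sq] at hne
      refine O.ne_comm hD hA hB ?_
      have hSE : Commute O.S (O.E d) := O.E_comm O.Z_comm_S d
      have h3 : O.S * (O.X ^ (k + 1) * O.E d) = (O.X ^ (k + 1) * O.E d) * O.S := by
        rw [← mul_assoc, hcomm, mul_assoc, hSE.eq, mul_assoc]
      rw [O.X_pow_E, mul_sub, sub_mul, mul_smul_comm, mul_smul_comm, smul_mul_assoc, smul_mul_assoc,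
        hSE.eq, sub_left_inj] at h3
      have h4 := smul_right_injective _ hne h3
      rwa [← mul_assoc, mul_assoc O.X (O.E d), ← hSE.eq, ← mul_assoc] at h4
    obtain ⟨i, hi1, hi2, hid⟩ := root_uu hr (by omega) hu
    refine ⟨i, hi1, by omega, hid.trans ?_⟩
    unfold dl ang
    rw [hm]
    congr 2
    push_cast
    field_simp
  · -- the longest element is `X ^ h * S`
    obtain ⟨k, hk⟩ : ∃ k, O.m = k + 1 := ⟨O.m - 1, by omega⟩
    set W := O.X ^ h * O.S with hW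
    have hWalt : W = alt O.S O.T O.m := by rw [hm, alt_two_mul_add_one]; rfl
    have hW' : W = (O.T * O.S) ^ h * O.T := by rw [hWalt, O.braid, hm, alt_two_mul_add_one]
    have hsc := (show SemiconjBy O.S (O.T * O.S) (O.S * O.T) from (mul_assoc _ _ _).symm).pow_right h
    have hsc' := (show SemiconjBy O.T (O.S * O.T) (O.T * O.S) from (mul_assoc _ _ _).symm).pow_right h
    have hSW : O.S * W = W * O.T := by
      conv_lhs => rw [hW', ← mul_assoc, hsc.eq]
      rfl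
    have hTW : O.T * W = W * O.S := by
      conv_lhs => rw [hW, ← mul_assoc, X, hsc'.eq]
      rw [hW']
    have hSW2 : O.S * (W * W) = (W * W) * O.S := by
      rw [← mul_assoc, hSW, mul_assoc, hTW, ← mul_assoc]
    have hW2 : W * W = O.X ^ O.m := by
      conv_lhs => arg 2; rw [hW']
      rw [hW, hm]
      calc O.X ^ h * O.S * ((O.T * O.S) ^ h * O.T) = O.X ^ h * (O.S * (O.T * O.S) ^ h) * O.T := by
            simp only [mul_assoc]
        _ = O.X ^ h * O.X ^ h * O.X := by rw [hsc.eq]; simp only [X, mul_assoc]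
        _ = _ := by rw [← pow_add, ← pow_succ]; congr 1; omega
    have hWt : Wᵀ = W := by
      rw [hW, X, transpose_mul, transpose_pow, transpose_mul, O.symS, O.symT, hsc.eq]
    have hWZ : Commute W O.Z := ((O.Z_comm_S.mul_left O.Z_comm_T).pow_left h).mul_left O.Z_comm_S
    have hWE := O.E_comm hWZ d
    have hSE : Commute O.S (O.E d) := O.E_comm O.Z_comm_S d
    have hu : uu (O.rr ^ 2) d (k + 1) = 0 := by
      by_contra hne
      rw [O.rr_sq] at hne
      refine O.ne_comm hD hA hB ?_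
      have h3 : O.S * (O.X ^ (k + 1) * O.E d) = (O.X ^ (k + 1) * O.E d) * O.S := by
        rw [← hk, ← hW2, ← mul_assoc, hSW2, mul_assoc, hSE.eq]
        simp only [mul_assoc]
      rw [O.X_pow_E, mul_sub, sub_mul, mul_smul_comm, mul_smul_comm, smul_mul_assoc, smul_mul_assoc,
        hSE.eq, sub_left_inj] at h3
      have h4 := smul_right_injective _ hne h3
      rwa [← mul_assoc, mul_assoc O.X (O.E d), ← hSE.eq, ← mul_assoc] at h4
    obtain ⟨i, hi1, hi2, hid⟩ := root_uu hr (by omega) hu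
    -- the square of the longest element is nonnegative
    set θ := (i : ℝ) * π / ((k + 1 : ℕ) : ℝ) with hθ
    have hθ0 : 0 < θ := by positivity
    have hθ1 : θ < π := by
      rw [hθ, div_lt_iff₀ (by positivity)]
      have : (i : ℝ) < ((k + 1 : ℕ) : ℝ) := by exact_mod_cast hi2
      nlinarith [Real.pi_pos]
    have hs0 : Real.sin θ ≠ 0 := (Real.sin_pos_of_pos_of_lt_pi hθ0 hθ1).ne'
    have hnn : 0 ≤ (O.X ^ (k + 1) * O.E d).trace := by
      have h5 : O.X ^ (k + 1) * O.E d = (W * O.E d) * (W * O.E d) := by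
        rw [mul_assoc W (O.E d), ← mul_assoc (O.E d), ← hWE.eq, mul_assoc W (O.E d), O.E_mul_self,
          ← mul_assoc, hW2, hk]
      rw [h5]
      exact sq_trace_nonneg (by rw [transpose_mul, O.E_transpose, hWt, hWE.eq])
    rw [O.X_pow_E, trace_sub, trace_smul, trace_smul, ← O.rr_sq, hu, smul_eq_mul, zero_mul, zero_sub,
      smul_eq_mul, neg_nonneg] at hnn
    have hDp : 0 < (O.E d).trace := lt_of_le_of_ne (by rw [← mult, O.mult_eq_card]; positivity) (Ne.symm hD)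
    have hval := uu_sin O.rr θ k
    have e1 := Real.sin_sub ((i : ℝ) * π) θ
    rw [Real.sin_nat_mul_pi, zero_mul, zero_sub, Real.cos_nat_mul_pi] at e1
    rw [show (k : ℝ) * θ = (i : ℝ) * π - θ by rw [hθ]; push_cast; field_simp; ring, e1, ← hid] at hval
    have hval' : O.rr * uu (O.rr ^ 2) d k = -(O.rr ^ k * (-1) ^ i) :=
      mul_right_cancel₀ hs0 (by linarith)
    have heven : Even i := by
      by_contra hne
      rw [Nat.not_even_iff_odd] at hne
      rw [hne.neg_one_pow] at hval'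
      have h7 : uu (O.rr ^ 2) d k ≤ 0 := by
        by_contra hp
        push Not at hp
        have := mul_pos (mul_pos (pow_pos hr 2) hp) hDp
        linarith
      nlinarith [pow_pos hr k, mul_nonpos_iff.2 (Or.inl ⟨hr.le, h7⟩)]
    obtain ⟨j, rfl⟩ := heven
    refine ⟨j, by omega, by omega, hid.trans ?_⟩
    unfold dl ang
    rw [hθ, hk]
    congr 2
    push_cast
    ring

theorem dl_lt {l : ℕ} : O.dl l ≤ 2 * O.rr ∧ -(2 * O.rr) ≤ O.dl l := by
  unfold dl
  constructor <;> nlinarith [Real.cos_le_one (ang O.m l), Real.neg_one_le_cos (ang O.m l), O.rr_pos]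

theorem ang_mem {l : ℕ} (hl : 1 ≤ l) (hl' : 2 * l < O.m) : 0 < ang O.m l ∧ ang O.m l < π := by
  have hm : (0 : ℝ) < O.m := by exact_mod_cast Nat.lt_of_lt_of_le (by omega) hl'.le
  have h1 : (1 : ℝ) ≤ l := by exact_mod_cast hl
  have h2 : 2 * (l : ℝ) < O.m := by exact_mod_cast hl'
  unfold ang
  push_cast
  refine ⟨by positivity, ?_⟩
  rw [div_lt_iff₀ hm]
  nlinarith [Real.pi_pos]

theorem dl_strict {l : ℕ} (hl : 1 ≤ l) (hl' : 2 * l < O.m) :
    O.dl l < 2 * O.rr ∧ -(2 * O.rr) < O.dl l := by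
  obtain ⟨h0, h1⟩ := O.ang_mem hl hl'
  have a := Real.cos_lt_cos_of_nonneg_of_le_pi le_rfl h1.le h0
  have b := Real.cos_lt_cos_of_nonneg_of_le_pi h0.le le_rfl h1
  rw [Real.cos_zero] at a
  rw [Real.cos_pi] at b
  unfold dl
  constructor <;> nlinarith [O.rr_pos]

theorem dl_injective {i l : ℕ} (hi : 1 ≤ i) (hi' : 2 * i < O.m) (hl : 1 ≤ l) (hl' : 2 * l < O.m)
    (h : O.dl i = O.dl l) : i = l := by
  have h1 : Real.cos (ang O.m i) = Real.cos (ang O.m l) :=
    mul_left_cancel₀ (by linarith [O.rr_pos] : (2 * O.rr) ≠ 0) h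
  obtain ⟨a0, a1⟩ := O.ang_mem hi hi'
  obtain ⟨b0, b1⟩ := O.ang_mem hl hl'
  have h2 := Real.injOn_cos ⟨a0.le, a1.le⟩ ⟨b0.le, b1.le⟩ h1
  unfold ang at h2
  have hm : (O.m : ℝ) ≠ 0 := Nat.cast_ne_zero.2 (by omega)
  rw [div_left_inj' hm] at h2
  have := mul_right_cancel₀ (mul_ne_zero two_ne_zero Real.pi_ne_zero) h2
  exact_mod_cast this

/-- The traces at the exceptional values. -/
noncomputable def b1 : ℝ := (O.P * O.E O.A).trace
noncomputable def b2 : ℝ := O.mult O.A - O.b1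
noncomputable def b3 : ℝ := (O.P * O.E (-O.B)).trace
noncomputable def b4 : ℝ := O.mult (-O.B) - O.b3

theorem X_pow_special {d : ℝ} {a b : ℝ}
    (h : O.X * O.E d = a • (O.P * O.E d) + b • (O.E d - O.P * O.E d)) (k : ℕ) :
    O.X ^ k * O.E d = a ^ k • (O.P * O.E d) + b ^ k • (O.E d - O.P * O.E d) := by
  induction k with
  | zero => simp
  | succ k ih =>
    have hP : O.X * (O.P * O.E d) = a • (O.P * O.E d) := by
      calc O.X * (O.P * O.E d) = (O.X * O.E d) * (O.P * O.E d) := by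
            rw [mul_assoc O.X, ← mul_assoc (O.E d), O.EP, mul_assoc O.P, O.E_mul_self]
        _ = _ := by
            rw [h, add_mul, smul_mul_assoc, smul_mul_assoc, sub_mul, O.PE_sq, ← mul_assoc, O.EP,
              mul_assoc, O.E_mul_self, sub_self, smul_zero, add_zero]
    rw [pow_succ', mul_assoc, ih, mul_add, mul_smul_comm, mul_smul_comm, mul_sub, hP, h, smul_sub]
    rw [pow_succ, pow_succ]
    module

theorem trace_A (k : ℕ) : (O.X ^ k * O.E O.A).trace = O.b1 * ((O.s : ℝ) * O.t) ^ k + O.b2 := by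
  have hc : O.cc O.A = 0 := O.cc_eq_zero.2 rfl
  have h : O.X * O.E O.A = ((O.s : ℝ) * O.t) • (O.P * O.E O.A) +
      (1 : ℝ) • (O.E O.A - O.P * O.E O.A) := by
    rw [O.XE, O.Q_eq_P hc, ← mul_assoc, O.P_mul_self]
    module
  rw [O.X_pow_special h, one_pow, trace_add, trace_smul, one_smul, trace_sub, smul_eq_mul]
  rw [show (O.E O.A).trace = O.mult O.A from rfl, b2, b1]
  ring

theorem trace_B (k : ℕ) : (O.X ^ k * O.E (-O.B)).trace =
    O.b3 * (-(O.s : ℝ)) ^ k + O.b4 * (-(O.t : ℝ)) ^ k := by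
  have hc : O.cc (-O.B) = 1 := O.cc_eq_one.2 rfl
  have h : O.X * O.E (-O.B) = (-(O.s : ℝ)) • (O.P * O.E (-O.B)) +
      (-(O.t : ℝ)) • (O.E (-O.B) - O.P * O.E (-O.B)) := by
    rw [O.XE, O.Q_eq_one_sub_P hc, mul_sub, ← mul_assoc, O.P_mul_self]
    module
  rw [O.X_pow_special h, trace_add, trace_smul, trace_smul, trace_sub, smul_eq_mul, smul_eq_mul]
  rw [show (O.E (-O.B)).trace = O.mult (-O.B) from rfl, b4, b3]
  ring

theorem trace_generic {d : ℝ} {j : ℕ} (hj : 1 ≤ j) (hj' : 2 * j < O.m) (hd : d = O.dl j)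
    (hA : d ≠ O.A) (hB : d ≠ -O.B) (k : ℕ) :
    (O.X ^ k * O.E d).trace = O.mult d * O.rr ^ k * Real.cos ((k : ℝ) * ang O.m j) := by
  obtain ⟨h0, h1⟩ := O.ang_mem hj hj'
  cases k with
  | zero => simp [mult]
  | succ k =>
    have hs0 := (Real.sin_pos_of_pos_of_lt_pi h0 h1).ne'
    have h2 := uu_half O.rr_pos.ne' hs0 k
    rw [show 2 * O.rr * Real.cos (ang O.m j) = d from hd.symm] at h2
    rw [O.X_pow_E, trace_sub, trace_smul, trace_smul,
      O.X_mul_trace (fun e => hA (O.cc_eq_zero.1 e)) (fun e => hB (O.cc_eq_one.1 e)),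
      smul_eq_mul, smul_eq_mul, ← O.rr_sq, show (O.E d).trace = O.mult d from rfl]
    push_cast
    linear_combination (O.mult d / 2) * h2

/-- The contribution of the exceptional values. -/
noncomputable def AB (φ : ℝ) : ℝ :=
  O.b1 * ∑ k ∈ range O.m, Real.cos ((k : ℝ) * φ) * O.rr ^ k +
  O.b2 * ∑ k ∈ range O.m, Real.cos ((k : ℝ) * φ) * O.rr⁻¹ ^ k +
  O.b3 * ∑ k ∈ range O.m, Real.cos ((k : ℝ) * φ) * (-(O.s : ℝ) / O.rr) ^ k +
  O.b4 * ∑ k ∈ range O.m, Real.cos ((k : ℝ) * φ) * (-(O.t : ℝ) / O.rr) ^ k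

/-- The weighted trace equation. -/
theorem main_eq (i : ℕ) : (Fintype.card ι : ℝ) = O.AB (ang O.m i) +
    ∑ d ∈ O.spec.filter (fun d => d ≠ O.A ∧ d ≠ -O.B), ∑ k ∈ range O.m,
      Real.cos ((k : ℝ) * ang O.m i) * O.rr⁻¹ ^ k * (O.X ^ k * O.E d).trace := by
  set φ := ang O.m i
  set f : ℝ → ℝ := fun d => ∑ k ∈ range O.m, Real.cos ((k : ℝ) * φ) * O.rr⁻¹ ^ k * (O.X ^ k * O.E d).trace
    with hf
  have hm : 0 < O.m := lt_of_lt_of_le two_pos O.hm
  have h1 : (Fintype.card ι : ℝ) = ∑ d ∈ O.spec, f d := by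
    simp only [hf]
    rw [Finset.sum_comm]
    simp only [← Finset.mul_sum, ← O.trace_sum]
    rw [Finset.sum_eq_single_of_mem 0 (Finset.mem_range.2 hm)]
    · simp
    · intro k hk hk0
      rw [show (O.X ^ k).trace = 0 from O.trX k (Nat.pos_of_ne_zero hk0) (Finset.mem_range.1 hk), mul_zero]
  have hz : ∀ d, d ∉ O.spec → f d = 0 := fun d hd => by
    have : O.mult d = 0 := by_contra fun e => hd (O.mem_spec_of_mult_ne_zero e)
    simp [hf, O.E_eq_zero this]
  have h2 : ∑ d ∈ O.spec, f d =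
      f O.A + f (-O.B) + ∑ d ∈ O.spec.filter (fun d => d ≠ O.A ∧ d ≠ -O.B), f d := by
    rw [← Finset.sum_filter_add_sum_filter_not O.spec (fun d => d ≠ O.A ∧ d ≠ -O.B), add_comm]
    congr 1
    have hne : O.A ≠ -O.B := by
      have := O.two_rr_lt_A; have := O.two_rr_le_B; have := O.rr_pos
      intro e; linarith
    rw [Finset.sum_subset (s₂ := {O.A, -O.B}) (fun d hd => ?_) (fun d hd hd' => ?_), Finset.sum_pair hne]
    · simp only [Finset.mem_filter, not_and_or, not_not] at hd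
      simpa using hd.2
    · refine hz d fun h => hd' ?_
      simp only [Finset.mem_filter, not_and_or, not_not]
      exact ⟨h, by simpa using hd⟩
  have hw : O.rr⁻¹ * ((O.s : ℝ) * O.t) = O.rr := by
    rw [← O.rr_sq', pow_two, inv_mul_cancel_left₀ O.rr_pos.ne']
  have h3 : f O.A + f (-O.B) = O.AB φ := by
    simp only [hf, O.trace_A, O.trace_B, AB, Finset.mul_sum, ← Finset.sum_add_distrib]
    refine Finset.sum_congr rfl fun k _ => ?_
    have e1 : O.rr⁻¹ ^ k * ((O.s : ℝ) * O.t) ^ k = O.rr ^ k := by rw [← mul_pow, hw]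
    have e3 : O.rr⁻¹ ^ k * (-(O.s : ℝ)) ^ k = (-(O.s : ℝ) / O.rr) ^ k := by
      rw [← mul_pow, div_eq_inv_mul]
    have e4 : O.rr⁻¹ ^ k * (-(O.t : ℝ)) ^ k = (-(O.t : ℝ) / O.rr) ^ k := by
      rw [← mul_pow, div_eq_inv_mul]
    linear_combination (Real.cos ((k : ℝ) * φ) * O.b1) * e1 + (Real.cos ((k : ℝ) * φ) * O.b3) * e3 +
      (Real.cos ((k : ℝ) * φ) * O.b4) * e4
  rw [h1, h2, h3]

theorem main_eq_orth (i : ℕ) : (Fintype.card ι : ℝ) = O.AB (ang O.m i) +
    ∑ d ∈ O.spec.filter (fun d => d ≠ O.A ∧ d ≠ -O.B),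
      O.mult d * (if 1 ≤ i ∧ 2 * i < O.m ∧ d = O.dl i then (O.m : ℝ) / 2 else 0) +
    ∑ d ∈ O.spec.filter (fun d => d ≠ O.A ∧ d ≠ -O.B),
      O.mult d * (if O.m < 2 * i then (∑ k ∈ range O.m,
        Real.cos ((k : ℝ) * ang O.m i) * O.rr⁻¹ ^ k * (O.X ^ k * O.E d).trace) / O.mult d else 0) := by
  rw [O.main_eq i, add_assoc, ← Finset.sum_add_distrib]
  congr 1
  refine Finset.sum_congr rfl fun d hd => ?_
  obtain ⟨hs, hA, hB⟩ := Finset.mem_filter.1 hd
  have hD := (O.mult_pos_of_mem hs).ne'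
  obtain ⟨j, hj, hj', hdj⟩ := O.exists_index hD hA hB
  by_cases hi : O.m < 2 * i
  · rw [if_neg (by omega), if_pos hi, mul_zero, zero_add, mul_div_cancel₀ _ hD]
  rw [if_neg hi, mul_zero, add_zero]
  have hm : 0 < O.m := by omega
  have hsum : ∀ k ∈ range O.m, Real.cos ((k : ℝ) * ang O.m i) * O.rr⁻¹ ^ k * (O.X ^ k * O.E d).trace =
      O.mult d * (Real.cos ((k : ℝ) * ang O.m i) * Real.cos ((k : ℝ) * ang O.m j)) := fun k _ => by
    rw [O.trace_generic hj hj' hdj hA hB]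
    have e : O.rr⁻¹ ^ k * O.rr ^ k = 1 := by rw [← mul_pow, inv_mul_cancel₀ O.rr_pos.ne', one_pow]
    linear_combination (Real.cos ((k : ℝ) * ang O.m i) * O.mult d * Real.cos ((k : ℝ) * ang O.m j)) * e
  rw [Finset.sum_congr rfl hsum, ← Finset.mul_sum, cos_orth hm]
  congr 1
  have h1 : ¬ (O.m : ℤ) ∣ (i : ℤ) + j := fun h => by
    have := Int.le_of_dvd (by omega) h
    omega
  rw [if_neg h1, zero_add]
  by_cases he : i = j
  · subst he
    rw [sub_self, if_pos (dvd_zero _), if_pos ⟨hj, hj', hdj⟩]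
  · rw [if_neg, if_neg, zero_div]
    · rintro ⟨a, b, c⟩
      exact he (O.dl_injective a b hj hj' (c.symm.trans hdj))
    · intro h
      rcases lt_or_gt_of_ne he with hl | hl
      · have := Int.le_of_dvd (by omega) (dvd_neg.2 h)
        omega
      · have := Int.le_of_dvd (by omega) h
        omega

theorem eq_mid {i : ℕ} (hi : 1 ≤ i) (hi' : 2 * i < O.m) :
    (Fintype.card ι : ℝ) = O.AB (ang O.m i) + (O.m : ℝ) / 2 * O.mult (O.dl i) := by
  have h := O.main_eq_orth i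
  rw [Finset.sum_eq_single (O.dl i), if_pos ⟨hi, hi', rfl⟩,
    Finset.sum_eq_zero (fun d _ => by rw [if_neg (by omega), mul_zero]), add_zero] at h
  · rw [h]; ring
  · intro d _ hd
    rw [if_neg (fun h => hd h.2.2), mul_zero]
  · intro hd
    have : O.mult (O.dl i) = 0 := by
      by_contra e
      refine hd (Finset.mem_filter.2 ⟨O.mem_spec_of_mult_ne_zero e, ?_, ?_⟩)
      · have := O.two_rr_lt_A; have := (O.dl_strict hi hi').1
        intro e; linarith
      · have := O.two_rr_le_B; have := (O.dl_strict hi hi').2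
        intro e; linarith
    rw [this, zero_mul]

theorem eq_end {i : ℕ} (hi : i = 0 ∨ 2 * i = O.m) : (Fintype.card ι : ℝ) = O.AB (ang O.m i) := by
  have h := O.main_eq_orth i
  rwa [Finset.sum_eq_zero (fun d _ => by rw [if_neg (by omega), mul_zero]), add_zero,
    Finset.sum_eq_zero (fun d _ => by rw [if_neg (by omega), mul_zero]), add_zero] at h

/-- Weights of the exceptional values. -/
noncomputable def e1 : ℝ := O.b1 * (1 - O.rr ^ O.m)
noncomputable def e2 : ℝ := O.b2 * (1 - O.rr⁻¹ ^ O.m)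
noncomputable def e3 : ℝ := O.b3 * (1 - (-(O.s : ℝ) / O.rr) ^ O.m)
noncomputable def e4 : ℝ := O.b4 * (1 - (-(O.t : ℝ) / O.rr) ^ O.m)

/-- The common factor of all multiplicities. -/
noncomputable def C0 : ℝ := (Fintype.card ι : ℝ) - (O.e1 + O.e2 + O.e3 + O.e4) / 2

noncomputable def alpha : ℝ := (O.e1 - O.e2) * (1 - O.rr ^ 2) / 2
noncomputable def beta : ℝ := (O.e3 - O.e4) * ((O.t : ℝ) - O.s) / 2

theorem AB_eq (l : ℕ) (hB : O.B + O.dl l ≠ 0) :
    O.AB (ang O.m l) = (O.e1 + O.e2 + O.e3 + O.e4) / 2 + O.alpha / (O.A - O.dl l) +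
      O.beta / (O.B + O.dl l) := by
  have hm : 0 < O.m := lt_of_lt_of_le two_pos O.hm
  have hp : (O.m : ℝ) * ang O.m l = ((l : ℤ) : ℝ) * (2 * π) := mul_ang hm l
  set c := Real.cos (ang O.m l) with hc
  set d := O.dl l with hd
  have hdc : d = 2 * O.rr * c := rfl
  have hA : O.A - d ≠ 0 := by
    have := O.two_rr_lt_A; have := (O.dl_lt (l := l)).1
    intro e; linarith
  have hr := O.rr_pos.ne'
  have hst := O.rr_sq'
  have hA2 : O.A - d = 1 - 2 * O.rr * c + O.rr ^ 2 := by rw [hst, hdc, A]; ring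
  have s1 : ∑ k ∈ range O.m, Real.cos ((k : ℝ) * ang O.m l) * O.rr ^ k =
      (1 - O.rr ^ O.m) * ((1 - O.rr ^ 2) / (O.A - d) + 1) / 2 := by
    have h := cos_sum_period O.rr hp
    rw [← hc, ← hA2] at h
    field_simp
    linear_combination 2 * h - (1 - O.rr ^ O.m) * hA2
  have s2 : ∑ k ∈ range O.m, Real.cos ((k : ℝ) * ang O.m l) * O.rr⁻¹ ^ k =
      (1 - O.rr⁻¹ ^ O.m) * ((O.rr ^ 2 - 1) / (O.A - d) + 1) / 2 := by
    have h := cos_sum_period O.rr⁻¹ hp
    rw [← hc] at h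
    generalize (∑ k ∈ range O.m, Real.cos ((k : ℝ) * ang O.m l) * O.rr⁻¹ ^ k) = Sm at h ⊢
    generalize O.rr⁻¹ ^ O.m = q at h ⊢
    field_simp at h ⊢
    rw [hA2]
    linear_combination 2 * h
  have s3 : ∀ u v : ℕ, (u : ℝ) * v = O.rr ^ 2 → (u : ℝ) + v = O.B → 2 ≤ u →
      ∑ k ∈ range O.m, Real.cos ((k : ℝ) * ang O.m l) * (-(u : ℝ) / O.rr) ^ k =
        (1 - (-(u : ℝ) / O.rr) ^ O.m) * (((v : ℝ) - u) / (O.B + d) + 1) / 2 := by
    intro u v huv hB' hu
    have h := cos_sum_period (-(u : ℝ) / O.rr) hp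
    rw [← hc] at h
    generalize (∑ k ∈ range O.m, Real.cos ((k : ℝ) * ang O.m l) * (-(u : ℝ) / O.rr) ^ k) = Sm at h ⊢
    generalize (-(u : ℝ) / O.rr) ^ O.m = q at h ⊢
    have hu0 : (u : ℝ) ≠ 0 := Nat.cast_ne_zero.2 (by omega)
    field_simp at h ⊢
    refine mul_left_cancel₀ hu0 ?_
    rw [← hB', hdc]
    linear_combination 2 * h + (2 * Sm - 2 * (1 - q)) * huv
  have h3 := s3 O.s O.t hst.symm rfl O.hs
  have h4 := s3 O.t O.s (by rw [hst]; ring) (by rw [B]; ring) O.ht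
  unfold AB
  rw [s1, s2, h3, h4, alpha, beta, e1, e2, e3, e4]
  field_simp
  ring

theorem formula [Nonempty ι] {l : ℕ} (hl : 1 ≤ l) (hl' : 2 * l < O.m) :
    (O.m : ℝ) / 2 * O.mult (O.dl l) * ((O.A - O.dl l) * (O.B + O.dl l)) =
      O.C0 * (4 * O.rr ^ 2 - O.dl l ^ 2) := by
  have hr := O.rr_pos
  obtain ⟨hlt, hgt⟩ := O.dl_strict hl hl'
  have hA := O.two_rr_lt_A
  have hB := O.two_rr_le_B
  have hm : 0 < O.m := lt_of_lt_of_le two_pos O.hm
  have h0 := O.eq_end (i := 0) (Or.inl rfl)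
  have hd0 : O.dl 0 = 2 * O.rr := by simp [dl, ang]
  rw [O.AB_eq 0 (by rw [hd0]; intro e; linarith), hd0] at h0
  have hmid := O.eq_mid hl hl'
  rw [O.AB_eq l (by intro e; linarith)] at hmid
  set d := O.dl l
  set D := (O.m : ℝ) / 2 * O.mult d
  have g0 : O.C0 * ((O.A - 2 * O.rr) * (O.B + 2 * O.rr)) =
      O.alpha * (O.B + 2 * O.rr) + O.beta * (O.A - 2 * O.rr) := by
    have e1 : O.A - 2 * O.rr ≠ 0 := by intro e; linarith
    have e2 : O.B + 2 * O.rr ≠ 0 := by intro e; linarith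
    have : O.C0 = O.alpha / (O.A - 2 * O.rr) + O.beta / (O.B + 2 * O.rr) := by rw [C0]; linarith
    rw [this]; field_simp
  have gd : D * ((O.A - d) * (O.B + d)) = O.C0 * ((O.A - d) * (O.B + d)) -
      O.alpha * (O.B + d) - O.beta * (O.A - d) := by
    have e1 : O.A - d ≠ 0 := by intro e; linarith
    have e2 : O.B + d ≠ 0 := by intro e; linarith
    have : D = O.C0 - O.alpha / (O.A - d) - O.beta / (O.B + d) := by rw [C0]; linarith
    rw [this]; field_simp
  rw [gd]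
  by_cases hst : O.s = O.t
  · have hB2 : O.B = 2 * O.rr := by
      have h2 : O.rr = O.s := by
        have h := O.rr_sq'
        rw [← hst] at h
        nlinarith [O.hs']
      rw [B, ← hst, h2]; ring
    have hb : O.beta = 0 := by simp [beta, hst]
    rw [hB2, hb] at g0 ⊢
    have h1 : O.C0 * (O.A - 2 * O.rr) = O.alpha := mul_right_cancel₀ (by linarith : (2 * O.rr + 2 * O.rr) ≠ 0) (by linarith)
    linear_combination (2 * O.rr + d) * h1
  · have hev : ∃ h, O.m = 2 * h := by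
      rcases Nat.even_or_odd' O.m with ⟨h, e | e⟩
      · exact ⟨h, e⟩
      · exact absurd (O.s_eq_t_of_odd ⟨h, e⟩) hst
    obtain ⟨h, hh⟩ := hev
    have hd1 : O.dl h = -(2 * O.rr) := by
      have : ang O.m h = π := by
        unfold ang
        rw [hh]; push_cast
        have : (h : ℝ) ≠ 0 := Nat.cast_ne_zero.2 (by omega)
        field_simp
      simp [dl, this]
    have hB' := O.two_rr_lt_B hst
    have hπ := O.eq_end (i := h) (Or.inr hh.symm)
    rw [O.AB_eq h (by rw [hd1]; intro e; linarith), hd1] at hπ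
    have g1 : O.C0 * ((O.A + 2 * O.rr) * (O.B - 2 * O.rr)) =
        O.alpha * (O.B - 2 * O.rr) + O.beta * (O.A + 2 * O.rr) := by
      have e1 : O.A + 2 * O.rr ≠ 0 := by intro e; linarith
      have e2 : O.B - 2 * O.rr ≠ 0 := by intro e; linarith
      have : O.C0 = O.alpha / (O.A + 2 * O.rr) + O.beta / (O.B - 2 * O.rr) := by
        rw [C0]; simp only [sub_neg_eq_add, ← sub_eq_add_neg] at hπ; linarith
      rw [this]; field_simp
    refine mul_left_cancel₀ (by linarith : 4 * O.rr ≠ 0) ?_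
    linear_combination (d + 2 * O.rr) * g0 + (2 * O.rr - d) * g1

theorem C0_ne_zero [Nonempty ι] (hm : 3 ≤ O.m) : O.C0 ≠ 0 := by
  intro h0
  have hcases : ∀ d ∈ O.spec, O.cc d = 0 ∨ O.cc d = 1 := by
    intro d hd
    by_contra hno
    push Not at hno
    have hA : d ≠ O.A := fun e => hno.1 (O.cc_eq_zero.2 e)
    have hB : d ≠ -O.B := fun e => hno.2 (O.cc_eq_one.2 e)
    have hD := O.mult_pos_of_mem hd
    obtain ⟨j, hj, hj', rfl⟩ := O.exists_index hD.ne' hA hB
    have h := O.formula hj hj'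
    rw [h0, zero_mul] at h
    have := O.dl_strict hj hj'
    have := O.two_rr_lt_A
    have := O.two_rr_le_B
    have hm' : (0 : ℝ) < O.m := by exact_mod_cast (by omega : 0 < O.m)
    have : 0 < (O.m : ℝ) / 2 * O.mult (O.dl j) * ((O.A - O.dl j) * (O.B + O.dl j)) := by
      refine mul_pos (mul_pos (by linarith) hD) (mul_pos ?_ ?_) <;> linarith
    linarith
  have hpq : O.P * O.Q = O.Q * O.P := by
    calc O.P * O.Q = ∑ d ∈ O.spec, O.P * O.Q * O.E d := by rw [← Finset.mul_sum, O.sum_E, mul_one]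
      _ = ∑ d ∈ O.spec, O.Q * O.P * O.E d := Finset.sum_congr rfl fun d hd => O.comm_E_of_cc (hcases d hd)
      _ = _ := by rw [← Finset.mul_sum, O.sum_E, mul_one]
  have hst : O.S * O.T = O.T * O.S := by
    rw [O.S_eq, O.T_eq]
    simp only [sub_mul, mul_sub, smul_mul_assoc, mul_smul_comm, one_mul, mul_one, hpq]
    module
  have h2 := O.trX 2 one_le_two hm
  rw [pow_two, show O.S * O.T * (O.S * O.T) = O.S * O.S * (O.T * O.T) by
    rw [mul_assoc O.S O.T, ← mul_assoc O.T, ← hst, mul_assoc O.S O.T, ← mul_assoc], O.sqS, O.sqT] at h2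
  have h1 := O.trX 1 le_rfl (by omega)
  rw [pow_one] at h1
  simp only [add_mul, mul_add, smul_mul_assoc, mul_smul_comm, one_mul, mul_one, trace_add, trace_smul,
    smul_eq_mul, trace_one, h1, O.trS, O.trT, mul_zero, zero_add] at h2
  have : (0 : ℝ) < (O.s : ℝ) * O.t * Fintype.card ι :=
    mul_pos O.w_pos (by exact_mod_cast Fintype.card_pos)
  linarith

end CfsgLib.FeitHigman.Ops
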