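import Cfsg.Agent.Lib.BNSteinberg.Section
import Cfsg.Agent.Lib.FeitHigman.Conclusion
import Cfsg.Agent.Lib.FeitHigman.Dihedral

/-!
# The operators on the chambers of a Tits system of rank two
-/

set_option autoImplicit false

namespace CfsgLib.FeitHigman

open CfsgLib.Chev.BN CfsgLib.BNSteinberg Matrix Finset
open scoped Classical

variable {G : Type*} [Group G] [Finite G] {P : Cfsg.BNPair G}

/-- The operator of a cell. -/
noncomputable def adj (P : Cfsg.BNPair G) (w : G) : Matrix (G ⧸ P.B) (G ⧸ P.B) ℝ :=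
  fun x y => if x.out⁻¹ * y.out ∈ cell P w then 1 else 0

theorem adj_apply (w : G) (x y : G ⧸ P.B) :
    adj P w x y = if x.out⁻¹ * y.out ∈ cell P w then 1 else 0 := rfl

theorem adj_congr {u w : G} (h : Eqv P u w) : adj P u = adj P w := by
  unfold adj; rw [h.cell_eq]

theorem out_mem_B {x y : G ⧸ P.B} : x.out⁻¹ * y.out ∈ P.B ↔ x = y := by
  constructor
  · intro h
    rw [← QuotientGroup.out_eq' x, ← QuotientGroup.out_eq' y]
    exact QuotientGroup.eq.2 h
  · rintro rfl; simpa using one_mem P.B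

theorem adj_one : adj P 1 = 1 := by
  ext x y
  rw [adj_apply, Matrix.one_apply]
  refine if_congr ⟨fun h => out_mem_B.1 (cell_one_subset h), fun h => ?_⟩ rfl rfl
  subst h
  simpa using mem_cell_self (P := P) (1 : G)

theorem adj_transpose (w : G) : (adj P w)ᵀ = adj P w⁻¹ := by
  ext x y
  rw [transpose_apply, adj_apply, adj_apply]
  refine if_congr ⟨fun h => ?_, fun h => ?_⟩ rfl rfl
  · simpa [_root_.mul_inv_rev] using inv_mem_cell h
  · simpa [_root_.mul_inv_rev] using inv_mem_cell h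

theorem adj_mul_apply [Fintype (G ⧸ P.B)] (u v : G) (x z : G ⧸ P.B) :
    (adj P u * adj P v) x z = ((Finset.univ.filter fun y : G ⧸ P.B =>
      x.out⁻¹ * y.out ∈ cell P u ∧ y.out⁻¹ * z.out ∈ cell P v).card : ℝ) := by
  rw [Matrix.mul_apply, Finset.natCast_card_filter]
  refine Finset.sum_congr rfl fun y _ => ?_
  rw [adj_apply, adj_apply, ite_zero_mul_ite_zero, one_mul]

theorem adj_mul [Fintype (G ⧸ P.B)] {u v : G} (hu : u ∈ P.N) (hv : v ∈ P.N)
    (hlen : len P (u * v) = len P u + len P v) : adj P u * adj P v = adj P (u * v) := by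
  ext x z
  rw [adj_mul_apply, adj_apply]
  by_cases h : x.out⁻¹ * z.out ∈ cell P (u * v)
  · rw [if_pos h, Nat.cast_eq_one, Finset.card_eq_one]
    obtain ⟨b₁, hb₁, b₂, hb₂, e⟩ := mem_cell.1 h
    refine ⟨((x.out * (b₁ * u) : G) : G ⧸ P.B), ?_⟩
    obtain ⟨c, hc⟩ := QuotientGroup.mk_out_eq_mul P.B (x.out * (b₁ * u))
    ext y
    simp only [Finset.mem_filter, Finset.mem_univ, true_and, Finset.mem_singleton]
    constructor
    · rintro ⟨h1, h2⟩
      rw [← QuotientGroup.out_eq' y]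
      refine (QuotientGroup.eq.2 ?_).symm
      have h3 : b₁ * u ∈ cell P u := mul_mem_cell hb₁ (mem_cell_self u)
      have h4 : v * b₂ ∈ cell P v := mem_cell_mul hb₂ (mem_cell_self v)
      have := factor_unique hu hv hlen h3 h1 h4 h2 (by
        rw [show b₁ * u * (v * b₂) = x.out⁻¹ * y.out * (y.out⁻¹ * z.out) by
          rw [show x.out⁻¹ * y.out * (y.out⁻¹ * z.out) = x.out⁻¹ * z.out by group, e]; group]
        simpa using one_mem P.B)
      rwa [show (x.out * (b₁ * u))⁻¹ * y.out = (b₁ * u)⁻¹ * (x.out⁻¹ * y.out) by group]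
    · rintro rfl
      rw [hc]
      refine ⟨?_, ?_⟩
      · rw [show x.out⁻¹ * (x.out * (b₁ * u) * (c : G)) = b₁ * u * (c : G) by group]
        exact mem_cell_mul c.2 (mul_mem_cell hb₁ (mem_cell_self u))
      · rw [show (x.out * (b₁ * u) * (c : G))⁻¹ * z.out = (c : G)⁻¹ * (b₁ * u)⁻¹ * (x.out⁻¹ * z.out) by
          group, e, show (c : G)⁻¹ * (b₁ * u)⁻¹ * (b₁ * (u * v) * b₂) = (c : G)⁻¹ * (v * b₂) by group]
        exact mul_mem_cell (inv_mem c.2) (mem_cell_mul hb₂ (mem_cell_self v))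
  · rw [if_neg h, Nat.cast_eq_zero, Finset.card_eq_zero, Finset.filter_eq_empty_iff]
    rintro y - ⟨h1, h2⟩
    have := cell_mul hu hv hlen h1 h2
    exact h (by rwa [show x.out⁻¹ * y.out * (y.out⁻¹ * z.out) = x.out⁻¹ * z.out by group] at this)

theorem trace_adj [Fintype (G ⧸ P.B)] {w : G} (hw : w ∉ P.B) (hwN : w ∈ P.N) :
    (adj P w).trace = 0 := by
  refine Finset.sum_eq_zero fun x _ => ?_
  rw [Matrix.diag_apply, adj_apply, if_neg]
  intro h
  rw [inv_mul_cancel] at h
  exact hw (eqv_one_iff.1 (eqv_of_mem_cells (one_mem _) hwN (mem_cell_self 1) h)).1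

theorem trace_adj_mul [Fintype (G ⧸ P.B)] {u w : G} (hu : u ∈ P.N) (hw : w ∈ P.N)
    (h : u * w ∉ P.B) : (adj P u * adj P w).trace = 0 := by
  refine Finset.sum_eq_zero fun x _ => ?_
  rw [Matrix.diag_apply, adj_mul_apply, Nat.cast_eq_zero, Finset.card_eq_zero,
    Finset.filter_eq_empty_iff]
  rintro y - ⟨h1, h2⟩
  have h3 := inv_mem_cell h2
  rw [_root_.mul_inv_rev, inv_inv] at h3
  have h4 := eqv_of_mem_cells hu (inv_mem hw) h1 h3
  apply h
  have h5 := conj_mem_H hu (inv_mem h4)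
  rw [show u * (u⁻¹ * w⁻¹)⁻¹ * u⁻¹ = u * w by group] at h5
  exact h5.1

/-- The parameter of a generator. -/
noncomputable def par (P : Cfsg.BNPair G) (s : G) : ℕ :=
  Nat.card {y : G ⧸ P.B // y.out ∈ cell P s}

theorem two_le_par {s : G} (hs : s ∈ P.S) : 2 ≤ par P s := by
  obtain ⟨b, hb, hbs⟩ := exists_sbs_mem hs
  have h1 : ((s : G) : G ⧸ P.B).out ∈ cell P s := out_mk_cell.2 (mem_cell_self s)
  have h2 : ((b * s : G) : G ⧸ P.B).out ∈ cell P s :=
    out_mk_cell.2 (mul_mem_cell hb (mem_cell_self s))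
  have hne : ((s : G) : G ⧸ P.B) ≠ ((b * s : G) : G ⧸ P.B) := by
    intro e
    have h3 := QuotientGroup.eq.1 e
    have h4 : s * b * s ∈ P.B := by
      rw [show s * b * s = (s * s) * (s⁻¹ * (b * s)) by group]
      exact mul_mem (P.sq_mem s hs) h3
    have h5 : s * b * s ∈ cell P (1 : G) := by
      simpa using mul_mem_cell h4 (mem_cell_self (P := P) (1 : G))
    exact s_not_mem_B hs (eqv_one_iff.1 (eqv_of_mem_cells (one_mem _) (s_mem_N hs) h5 hbs)).1
  haveI : Nontrivial {y : G ⧸ P.B // y.out ∈ cell P s} :=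
    ⟨⟨_, h1⟩, ⟨_, h2⟩, fun e => hne (congrArg Subtype.val e)⟩
  exact Finite.one_lt_card

theorem par_translate [Fintype (G ⧸ P.B)] (s : G) (x : G ⧸ P.B) :
    (Finset.univ.filter fun y : G ⧸ P.B => x.out⁻¹ * y.out ∈ cell P s).card = par P s := by
  rw [← Fintype.card_subtype, ← Nat.card_eq_fintype_card]
  refine Nat.card_congr ((MulAction.toPerm (x.out⁻¹) : Equiv.Perm (G ⧸ P.B)).subtypeEquiv fun y => ?_)
  show _ ↔ (x.out⁻¹ • y).out ∈ cell P s
  rw [← QuotientGroup.out_eq' y, MulAction.Quotient.smul_coe, out_mk_cell, smul_eq_mul,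
    QuotientGroup.out_eq' y]

theorem adj_sq [Fintype (G ⧸ P.B)] {s : G} (hs : s ∈ P.S) :
    adj P s * adj P s = ((par P s : ℝ) - 1) • adj P s + (par P s : ℝ) • 1 := by
  have hsymm : ∀ g, g ∈ cell P s → g⁻¹ ∈ cell P s := fun g hg => by
    rw [(eqv_inv_self hs).cell_eq]; exact inv_mem_cell hg
  have hprod : ∀ g h : G, g ∈ cell P s → h ∈ cell P s → g * h ∈ P.B ∨ g * h ∈ cell P s := by
    intro g h hg hh
    obtain ⟨b₁, hb₁, b₂, hb₂, rfl⟩ := mem_cell.1 hg
    rcases step_left hs (s_mem_N hs) hb₂ hh with e | e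
    · left
      rw [← (eqv_one_iff.2 (sq_mem_H hs)).cell_eq] at e
      rw [show b₁ * s * b₂ * h = b₁ * (s * b₂ * h) by group]
      exact mul_mem hb₁ (cell_one_subset e)
    · right
      rw [show b₁ * s * b₂ * h = b₁ * (s * b₂ * h) by group]
      exact mul_mem_cell hb₁ e
  have hnot : ∀ g, g ∈ cell P s → g ∉ P.B := fun g hg hB =>
    s_not_mem_B hs (eqv_one_iff.1 (eqv_of_mem_cells (one_mem _) (s_mem_N hs)
      (by simpa using mul_mem_cell hB (mem_cell_self (P := P) (1 : G))) hg)).1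
  ext x z
  rw [adj_mul_apply, Matrix.add_apply, Matrix.smul_apply, Matrix.smul_apply, adj_apply,
    Matrix.one_apply, smul_eq_mul, smul_eq_mul]
  have hsplit : ∀ y : G ⧸ P.B,
      x.out⁻¹ * y.out * (y.out⁻¹ * z.out) = x.out⁻¹ * z.out := fun y => by group
  by_cases hxz : x = z
  · subst hxz
    rw [if_neg (fun h => hnot _ h (by simpa using one_mem P.B)), mul_zero, zero_add, if_pos rfl,
      mul_one, Nat.cast_inj, ← par_translate s x]
    congr 1
    refine Finset.filter_congr fun y _ => ⟨And.left, fun h => ⟨h, ?_⟩⟩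
    simpa [_root_.mul_inv_rev] using hsymm _ h
  rw [if_neg hxz, mul_zero, add_zero]
  by_cases hc : x.out⁻¹ * z.out ∈ cell P s
  · rw [if_pos hc, mul_one, show (Finset.univ.filter fun y : G ⧸ P.B =>
        x.out⁻¹ * y.out ∈ cell P s ∧ y.out⁻¹ * z.out ∈ cell P s) =
      (Finset.univ.filter fun y : G ⧸ P.B => x.out⁻¹ * y.out ∈ cell P s).erase z from ?_,
      Finset.card_erase_of_mem (by simpa using hc), par_translate,
      Nat.cast_sub (by have := two_le_par hs; omega), Nat.cast_one]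
    ext y
    simp only [Finset.mem_filter, Finset.mem_univ, true_and, Finset.mem_erase]
    constructor
    · rintro ⟨h1, h2⟩
      exact ⟨fun e => hnot _ h2 (out_mem_B.2 e), h1⟩
    · rintro ⟨hne, h1⟩
      refine ⟨h1, ?_⟩
      rcases hprod _ _ (hsymm _ h1) hc with e | e <;>
        rw [show (x.out⁻¹ * y.out)⁻¹ * (x.out⁻¹ * z.out) = y.out⁻¹ * z.out by group] at e
      · exact absurd (out_mem_B.1 e) hne
      · exact e
  · rw [if_neg hc, mul_zero, Nat.cast_eq_zero, Finset.card_eq_zero, Finset.filter_eq_empty_iff]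
    rintro y - ⟨h1, h2⟩
    rcases hprod _ _ h1 h2 with e | e <;> rw [hsplit] at e
    · exact hxz (out_mem_B.1 e)
    · exact hc e

namespace Pair

variable (π : Pair P)

theorem adj_alt [Fintype (G ⧸ P.B)] {k : ℕ} (hk : k ≤ π.m) :
    adj P (alt π.s π.t k) = alt (adj P π.s) (adj P π.t) k := by
  induction k generalizing π with
  | zero => exact adj_one
  | succ k ih =>
    have h := ih π.swap (by rw [π.swap_m]; omega)
    have hlen := π.swap.len_alt (k := k) (by rw [π.swap_m]; omega)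
    show adj P (π.s * alt π.t π.s k) = adj P π.s * _
    have hm := π.swap.alt_mem k
    simp only [swap] at h hlen hm
    rw [← adj_mul (s_mem_N π.hs) hm, h]
    show len P (π.s * alt π.t π.s k) = len P π.s + len P (alt π.t π.s k)
    rw [len_s π.hs, hlen]
    have := π.len_alt hk
    change len P (π.s * alt π.t π.s k) = k + 1 at this
    omega

theorem not_mem_B_pow {k : ℕ} (h1 : 1 ≤ k) (h2 : k < π.m) : alt π.s π.t (2 * k) ∉ P.B := by
  rw [π.mem_B_alt_iff, alt_two_mul]
  exact pow_ne_one_of_lt_orderOf (by omega) h2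

theorem trace_pow [Fintype (G ⧸ P.B)] {k : ℕ} (h1 : 1 ≤ k) (h2 : k < π.m) :
    ((adj P π.s * adj P π.t) ^ k).trace = 0 := by
  have hnB := π.not_mem_B_pow h1 h2
  rw [← alt_two_mul]
  rcases le_or_gt (2 * k) π.m with hle | hlt
  · rw [← π.adj_alt hle]
    exact trace_adj hnB (π.alt_mem _)
  · obtain ⟨j, hj⟩ : ∃ j, 2 * k = π.m + j := ⟨2 * k - π.m, by omega⟩
    rw [hj, alt_add] at hnB ⊢
    by_cases hev : Even π.m
    · rw [if_pos hev] at hnB ⊢
      rw [← π.adj_alt le_rfl, ← π.adj_alt (k := j) (by omega)]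
      exact trace_adj_mul (π.alt_mem _) (π.alt_mem _) hnB
    · rw [if_neg hev] at hnB ⊢
      rw [← π.adj_alt le_rfl]
      have h := π.swap.adj_alt (k := j) (by rw [π.swap_m]; omega)
      simp only [swap] at h
      rw [← h]
      exact trace_adj_mul (π.alt_mem _) (π.swap.alt_mem _) hnB

/-- The operators. -/
noncomputable def ops [Fintype (G ⧸ P.B)] : Ops (G ⧸ P.B) where
  S := adj P π.s
  T := adj P π.t
  s := par P π.s
  t := par P π.t
  m := π.m
  hs := two_le_par π.hs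
  ht := two_le_par π.ht
  hm := π.two_le_m
  symS := by rw [adj_transpose, adj_congr (eqv_inv_self π.hs).symm]
  symT := by rw [adj_transpose, adj_congr (eqv_inv_self π.ht).symm]
  sqS := adj_sq π.hs
  sqT := adj_sq π.ht
  braid := by
    have h := π.swap.adj_alt (k := π.m) (by rw [π.swap_m])
    simp only [swap] at h
    rw [← π.adj_alt le_rfl, ← h]
    exact adj_congr π.alt_m
  trX := fun k h1 h2 => π.trace_pow h1 h2
  trS := trace_adj (s_not_mem_B π.hs) (s_mem_N π.hs)
  trT := trace_adj (s_not_mem_B π.ht) (s_mem_N π.ht)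
  ratS := ⟨fun x y => if x.out⁻¹ * y.out ∈ cell P π.s then 1 else 0, by
    ext x y
    show adj P π.s x y = algebraMap ℚ ℝ (if x.out⁻¹ * y.out ∈ cell P π.s then 1 else 0)
    rw [adj_apply]
    split_ifs <;> simp⟩
  ratT := ⟨fun x y => if x.out⁻¹ * y.out ∈ cell P π.t then 1 else 0, by
    ext x y
    show adj P π.t x y = algebraMap ℚ ℝ (if x.out⁻¹ * y.out ∈ cell P π.t then 1 else 0)
    rw [adj_apply]
    split_ifs <;> simp⟩

end Pair

/-- Feit–Higman. -/
theorem feit_higman (h2 : P.rank = 2) :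
    ((P.B ⊓ P.N).subgroupOf P.N).index ∈ ({4, 6, 8, 12, 16} : Set ℕ) := by
  rw [Cfsg.BNPair.rank, Nat.card_coe_set_eq, Set.ncard_eq_two] at h2
  obtain ⟨s, t, hne, hS⟩ := h2
  let π : Pair P := ⟨s, t, by simp [hS], by simp [hS], hne, fun u hu => by simpa [hS] using hu⟩
  haveI : Fintype (G ⧸ P.B) := Fintype.ofFinite _
  have h := π.ops.m_mem
  rw [π.index_eq]
  simp only [Set.mem_insert_iff, Set.mem_singleton_iff] at h ⊢
  change π.m = 2 ∨ π.m = 3 ∨ π.m = 4 ∨ π.m = 6 ∨ π.m = 8 at h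
  omega

end CfsgLib.FeitHigman
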