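import Cfsg.Agent.Lib.FeitHigman.Spectral

/-!
# The scaled Chebyshev recursion and finite cosine sums
-/

set_option autoImplicit false

open Finset
open scoped Real

namespace CfsgLib.FeitHigman

open Ops (uu)

theorem uu_sin (r θ : ℝ) : ∀ k : ℕ,
    r * uu (r ^ 2) (2 * r * Real.cos θ) k * Real.sin θ = r ^ k * Real.sin ((k : ℝ) * θ)
  | 0 => by simp [uu]
  | 1 => by simp [uu]
  | k + 2 => by
    have h1 := uu_sin r θ (k + 1)
    have h2 := uu_sin r θ k
    simp only [uu]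
    push_cast at h1 ⊢
    have e1 := Real.sin_add (((k : ℝ) + 1) * θ) θ
    have e2 := Real.sin_sub (((k : ℝ) + 1) * θ) θ
    rw [show ((k : ℝ) + 1) * θ + θ = ((k : ℝ) + 2) * θ by ring] at e1
    rw [show ((k : ℝ) + 1) * θ - θ = (k : ℝ) * θ by ring] at e2
    linear_combination (2 * r * Real.cos θ) * h1 - r ^ 2 * h2 - r ^ (k + 2) * e1 - r ^ (k + 2) * e2

theorem uu_half {r θ : ℝ} (hr : r ≠ 0) (hθ : Real.sin θ ≠ 0) (k : ℕ) :
    uu (r ^ 2) (2 * r * Real.cos θ) (k + 1) * (2 * r * Real.cos θ) -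
      2 * r ^ 2 * uu (r ^ 2) (2 * r * Real.cos θ) k = 2 * r ^ (k + 1) * Real.cos (((k : ℝ) + 1) * θ) := by
  have h1 := uu_sin r θ (k + 1)
  have h2 := uu_sin r θ k
  push_cast at h1
  have e2 := Real.sin_sub (((k : ℝ) + 1) * θ) θ
  rw [show ((k : ℝ) + 1) * θ - θ = (k : ℝ) * θ by ring] at e2
  refine mul_left_cancel₀ (mul_ne_zero hr hθ) ?_
  linear_combination (2 * r * Real.cos θ) * h1 - (2 * r ^ 2) * h2 - 2 * r ^ (k + 2) * e2

theorem uu_pos {r d : ℝ} (hr : 0 < r) (hd : 2 * r ≤ d) :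
    ∀ k : ℕ, 0 < uu (r ^ 2) d (k + 1) ∧ r * uu (r ^ 2) d k ≤ uu (r ^ 2) d (k + 1)
  | 0 => by simp [uu]
  | k + 1 => by
    obtain ⟨h1, h2⟩ := uu_pos hr hd k
    have h3 : r * uu (r ^ 2) d (k + 1) ≤ uu (r ^ 2) d (k + 2) := by
      simp only [uu]
      nlinarith [mul_le_mul_of_nonneg_right hd h1.le, mul_le_mul_of_nonneg_left h2 hr.le]
    exact ⟨lt_of_lt_of_le (mul_pos hr h1) h3, h3⟩

theorem uu_neg (w d : ℝ) : ∀ k : ℕ, uu w (-d) k = (-1) ^ (k + 1) * uu w d k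
  | 0 => by simp [uu]
  | 1 => by simp [uu]
  | k + 2 => by
    simp only [uu]
    rw [uu_neg w d (k + 1), uu_neg w d k]
    ring

/-- A root of the recursion is `2r cos (iπ/h)`. -/
theorem root_uu {r d : ℝ} (hr : 0 < r) {h : ℕ} (hh : 1 ≤ h) (hu : uu (r ^ 2) d h = 0) :
    ∃ i : ℕ, 1 ≤ i ∧ i < h ∧ d = 2 * r * Real.cos ((i : ℝ) * π / h) := by
  obtain ⟨k, rfl⟩ : ∃ k, h = k + 1 := ⟨h - 1, by omega⟩
  have hlt : d < 2 * r := by
    by_contra hge
    push Not at hge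
    exact (uu_pos hr hge k).1.ne' hu
  have hgt : -(2 * r) < d := by
    by_contra hle
    push Not at hle
    have h1 := (uu_pos hr (show 2 * r ≤ -d by linarith) k).1
    rw [uu_neg, hu, mul_zero] at h1
    exact lt_irrefl _ h1
  set x := d / (2 * r) with hx
  have hx1 : -1 < x := by rw [hx, lt_div_iff₀ (by positivity)]; linarith
  have hx2 : x < 1 := by rw [hx, div_lt_iff₀ (by positivity)]; linarith
  set θ := Real.arccos x with hθ
  have hd : d = 2 * r * Real.cos θ := by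
    rw [hθ, Real.cos_arccos hx1.le hx2.le, hx]; field_simp
  have hθ0 : 0 < θ := Real.arccos_pos.2 hx2
  have hθ1 : θ < π := by
    rw [hθ]
    exact lt_of_le_of_ne (Real.arccos_le_pi x) fun e => by
      have := Real.cos_arccos hx1.le hx2.le
      rw [e, Real.cos_pi] at this
      linarith
  have hsin := uu_sin r θ (k + 1)
  rw [← hd, hu, mul_zero, zero_mul, eq_comm, mul_eq_zero, or_iff_right (pow_ne_zero _ hr.ne'),
    Real.sin_eq_zero_iff] at hsin
  obtain ⟨n, hn⟩ := hsin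
  have hk : (0 : ℝ) < ((k + 1 : ℕ) : ℝ) := by exact_mod_cast Nat.succ_pos k
  have hn0 : 0 < n := by
    have : (0 : ℝ) < n := by
      by_contra hle
      push Not at hle
      nlinarith [mul_pos hk hθ0, Real.pi_pos]
    exact_mod_cast this
  have hn1 : n < (k + 1 : ℕ) := by
    have : (n : ℝ) < ((k + 1 : ℕ) : ℝ) := by
      by_contra hle
      push Not at hle
      nlinarith [mul_lt_mul_of_pos_left hθ1 hk, Real.pi_pos]
    exact_mod_cast this
  obtain ⟨i, rfl⟩ : ∃ i : ℕ, n = i := ⟨n.toNat, (Int.toNat_of_nonneg hn0.le).symm⟩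
  refine ⟨i, by omega, by omega, ?_⟩
  rw [hd]
  congr 2
  push_cast at hn ⊢
  field_simp
  linarith

theorem cos_sum (φ y : ℝ) : ∀ n : ℕ,
    (1 - 2 * y * Real.cos φ + y ^ 2) * ∑ k ∈ range n, Real.cos ((k : ℝ) * φ) * y ^ k =
      1 - y * Real.cos φ - y ^ n * Real.cos ((n : ℝ) * φ) + y ^ (n + 1) * Real.cos ((n : ℝ) * φ - φ)
  | 0 => by simp
  | n + 1 => by
    rw [Finset.sum_range_succ, mul_add, cos_sum φ y n]
    push_cast
    have e1 : Real.cos (((n : ℝ) + 1) * φ) = Real.cos ((n : ℝ) * φ) * Real.cos φ -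
        Real.sin ((n : ℝ) * φ) * Real.sin φ := by rw [add_one_mul, Real.cos_add]
    have e2 := Real.cos_sub ((n : ℝ) * φ) φ
    rw [show ((n : ℝ) + 1) * φ - φ = (n : ℝ) * φ by ring, e1, e2]
    ring

/-- The sum over a period. -/
theorem cos_sum_period {φ : ℝ} (y : ℝ) {m : ℕ} {j : ℤ} (hφ : (m : ℝ) * φ = (j : ℝ) * (2 * π)) :
    (1 - 2 * y * Real.cos φ + y ^ 2) * ∑ k ∈ range m, Real.cos ((k : ℝ) * φ) * y ^ k =
      (1 - y * Real.cos φ) * (1 - y ^ m) := by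
  have h1 : Real.cos ((m : ℝ) * φ) = 1 := by rw [hφ]; exact Real.cos_int_mul_two_pi j
  have h2 : Real.sin ((m : ℝ) * φ) = 0 := Real.sin_eq_zero_iff.2 ⟨2 * j, by rw [hφ]; push_cast; ring⟩
  rw [cos_sum, Real.cos_sub, h1, h2]
  ring

/-- The angle `2πl/m`. -/
noncomputable def ang (m : ℕ) (l : ℤ) : ℝ := (l : ℝ) * (2 * π) / m

theorem mul_ang {m : ℕ} (hm : 0 < m) (l : ℤ) : (m : ℝ) * ang m l = (l : ℝ) * (2 * π) := by
  unfold ang
  have : (m : ℝ) ≠ 0 := Nat.cast_ne_zero.2 hm.ne'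
  field_simp

theorem cos_ang_eq_one {m : ℕ} (hm : 0 < m) {l : ℤ} (h : Real.cos (ang m l) = 1) : (m : ℤ) ∣ l := by
  obtain ⟨k, hk⟩ := (Real.cos_eq_one_iff _).1 h
  refine ⟨k, ?_⟩
  have h1 := mul_ang hm l
  rw [← hk, ← mul_assoc] at h1
  have h2 := mul_right_cancel₀ (mul_ne_zero two_ne_zero Real.pi_ne_zero) h1
  exact_mod_cast h2.symm

theorem sum_cos_eq_zero {m : ℕ} (hm : 0 < m) {l : ℤ} (hl : ¬ (m : ℤ) ∣ l) :
    ∑ k ∈ range m, Real.cos ((k : ℝ) * ang m l) = 0 := by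
  have h := cos_sum_period (φ := ang m l) 1 (mul_ang hm l)
  simp only [one_pow, mul_one, one_mul, sub_self, mul_zero] at h
  have h1 : Real.cos (ang m l) ≠ 1 := fun e => hl (cos_ang_eq_one hm e)
  rcases mul_eq_zero.1 h with e | e
  · exact absurd (by linarith) h1
  · exact e

/-- Orthogonality of the cosines. -/
theorem cos_orth {m : ℕ} (hm : 0 < m) (i l : ℤ) :
    ∑ k ∈ range m, Real.cos ((k : ℝ) * ang m i) * Real.cos ((k : ℝ) * ang m l) =
      ((if (m : ℤ) ∣ (i + l) then (m : ℝ) else 0) + (if (m : ℤ) ∣ (i - l) then (m : ℝ) else 0)) / 2 := by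
  have key : ∀ j : ℤ, ∑ k ∈ range m, Real.cos ((k : ℝ) * ang m j) =
      if (m : ℤ) ∣ j then (m : ℝ) else 0 := by
    intro j
    split_ifs with h
    · obtain ⟨q, rfl⟩ := h
      have : ∀ k : ℕ, Real.cos ((k : ℝ) * ang m ((m : ℤ) * q)) = 1 := fun k => by
        rw [show (k : ℝ) * ang m ((m : ℤ) * q) = (((k : ℤ) * q : ℤ) : ℝ) * (2 * π) by
          unfold ang; push_cast
          have : (m : ℝ) ≠ 0 := Nat.cast_ne_zero.2 hm.ne'
          field_simp]
        exact Real.cos_int_mul_two_pi _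
      simp [this]
    · exact sum_cos_eq_zero hm h
  rw [← key, ← key, ← Finset.sum_add_distrib, Finset.sum_div]
  refine Finset.sum_congr rfl fun k _ => ?_
  rw [show (k : ℝ) * ang m (i + l) = (k : ℝ) * ang m i + (k : ℝ) * ang m l by
      unfold ang; push_cast; ring,
    show (k : ℝ) * ang m (i - l) = (k : ℝ) * ang m i - (k : ℝ) * ang m l by
      unfold ang; push_cast; ring, Real.cos_add, Real.cos_sub]
  ring

end CfsgLib.FeitHigman
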